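import Groth.Prelude.Def_FlatCA
import Mathlib

/-!
# Contents of ideals of a projective algebra
-/

set_option autoImplicit false
set_option linter.style.haveILetI false
set_option backward.isDefEq.respectTransparency false
set_option maxHeartbeats 400000

universe u

open TensorProduct

namespace GrothLib.DevFlatRep8

/-- The content ideal of a finitely generated ideal of a projective algebra, read after every base change. -/
theorem exists_content {A B : Type u} [CommRing A] [CommRing B] [Algebra A B] [Module.Projective A B]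
    (J : Ideal B) (hJ : J.FG) :
    ∃ b : Ideal A, b.FG ∧ ∀ (R C : Type u) [CommRing R] [CommRing C] [Algebra A R] [Algebra A C] [Algebra R C]
      [Algebra B C] [IsScalarTower A R C] [IsScalarTower A B C] [Algebra.IsPushout A R B C],
      (∀ K : Ideal R, b.map (algebraMap A R) ≤ K ↔ J.map (algebraMap B C) ≤ K.map (algebraMap R C)) ∧
      ∀ (t : Ideal R) [t.IsPrime], (∀ x ∈ J.map (algebraMap B C), ∃ a ∉ t, a • x = 0) →
        ∀ y ∈ b.map (algebraMap A R), ∃ a ∉ t, a * y = 0 := by
  classical
  obtain ⟨s, hs⟩ := Module.projective_def'.1 ‹Module.Projective A B›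
  obtain ⟨S, rfl⟩ := hJ
  let b : Ideal A := Ideal.span ((S.biUnion fun j => (s j).support.image (s j) : Finset A) : Set A)
  have hcoord : ∀ j ∈ S, ∀ i, s j i ∈ b := fun j hj i => by
    by_cases h : s j i = 0
    · rw [h]; exact zero_mem _
    · exact Ideal.subset_span (Finset.mem_coe.2 (Finset.mem_biUnion.2 ⟨j, hj,
        Finset.mem_image.2 ⟨i, Finsupp.mem_support_iff.2 h, rfl⟩⟩))
  refine ⟨b, Submodule.fg_span (Finset.finite_toSet _), fun R C _ _ _ _ _ _ _ _ _ => ?_⟩
  have hC : IsBaseChange R (IsScalarTower.toAlgHom A B C).toLinearMap := Algebra.IsPushout.out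
  let c : C →ₗ[R] (B →₀ R) := hC.lift ((Finsupp.mapRange.linearMap (Algebra.linearMap A R)) ∘ₗ s)
  have hc : ∀ x : B, c (algebraMap B C x) = Finsupp.mapRange (algebraMap A R) (map_zero _) (s x) := fun x =>
    hC.lift_eq _ x
  let p : (B →₀ R) →ₗ[R] C := Finsupp.linearCombination R (fun x : B => algebraMap B C x)
  have hp : ∀ x : C, p (c x) = x := fun x => by
    induction x using hC.inductionOn with
    | zero => simp
    | tmul x =>
      show p (c (algebraMap B C x)) = algebraMap B C x
      have h1 : Finsupp.linearCombination A id (s x) = x := LinearMap.congr_fun hs x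
      conv_rhs => rw [← h1, Finsupp.linearCombination_apply, map_finsuppSum]
      rw [hc, Finsupp.linearCombination_apply, Finsupp.sum_mapRange_index]
      · exact Finsupp.sum_congr fun i _ => by
          rw [algebraMap_smul, id_eq, Algebra.smul_def, Algebra.smul_def, map_mul, ← IsScalarTower.algebraMap_apply]
      · intro i; exact zero_smul _ _
    | smul r x hx => rw [map_smul, map_smul, hx]
    | add x y hx hy => rw [map_add, map_add, hx, hy]
  have hK : ∀ (K : Ideal R) (x : C), x ∈ K.map (algebraMap R C) → ∀ i, c x i ∈ K := by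
    intro K x hx
    have hx' : x ∈ K • (⊤ : Submodule R C) := by rw [Ideal.smul_top_eq_map]; exact hx
    refine Submodule.smul_induction_on hx' (fun a ha y _ i => ?_) (fun y z hy hz i => ?_)
    · rw [map_smul, Finsupp.smul_apply, smul_eq_mul]; exact K.mul_mem_right _ ha
    · rw [map_add, Finsupp.add_apply]; exact add_mem (hy i) (hz i)
  have hgen : ∀ K : Ideal R, (∀ j ∈ S, ∀ i, c (algebraMap B C j) i ∈ K) → b.map (algebraMap A R) ≤ K := by
    intro K h
    rw [Ideal.map_le_iff_le_comap, Ideal.span_le]
    intro a ha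
    obtain ⟨j, hj, hi⟩ := Finset.mem_biUnion.1 (Finset.mem_coe.1 ha)
    obtain ⟨i, -, rfl⟩ := Finset.mem_image.1 hi
    have := h j hj i
    rwa [hc, Finsupp.mapRange_apply] at this
  have hmem : ∀ j ∈ S, algebraMap B C j ∈ (Ideal.span (S : Set B)).map (algebraMap B C) := fun j hj =>
    Ideal.mem_map_of_mem _ (Ideal.subset_span hj)
  refine ⟨fun K => ⟨fun h => ?_, fun h => hgen K fun j hj => hK K _ (h (hmem j hj))⟩, fun t _ h => ?_⟩
  · rw [Ideal.map_le_iff_le_comap]
    refine Ideal.span_le.2 fun j hj => ?_
    rw [SetLike.mem_coe, Ideal.mem_comap, ← hp (algebraMap B C j), hc,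
      Finsupp.linearCombination_apply]
    refine sum_mem fun i _ => ?_
    dsimp only
    rw [Finsupp.mapRange_apply, Algebra.smul_def]
    exact Ideal.mul_mem_right _ _ (Ideal.mem_map_of_mem _ (h (Ideal.mem_map_of_mem _ (hcoord j hj i))))
  · intro y hy
    let K : Ideal R := RingHom.ker (algebraMap R (Localization.AtPrime t))
    have hle : b.map (algebraMap A R) ≤ K := hgen K fun j hj i => by
      obtain ⟨a, ha, hax⟩ := h _ (hmem j hj)
      refine (IsLocalization.map_eq_zero_iff t.primeCompl (Localization.AtPrime t) _).2 ⟨⟨a, ha⟩, ?_⟩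
      have := congrArg (fun x : C => c x i) hax
      simpa using this
    obtain ⟨a, ha⟩ := (IsLocalization.map_eq_zero_iff t.primeCompl (Localization.AtPrime t) y).1 (hle hy)
    exact ⟨a, a.2, ha⟩

end GrothLib.DevFlatRep8
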