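import Groth.Agent.Lib.DevFlatRep8.Point
import Groth.Agent.Lib.RankStratum9.Basic
import Groth.Agent.Lib.RG6.GenericBasis
import Groth.Agent.Lib.Fitting.Local

/-!
# Flatness at the generic points of the fibres of a smooth algebra with geometrically integral fibres
-/

set_option autoImplicit false
set_option linter.style.haveILetI false
set_option backward.isDefEq.respectTransparency false
set_option maxHeartbeats 400000

universe u

open TensorProduct FlatCA CategoryTheory CategoryTheory.Limits AlgebraicGeometry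

namespace GrothLib.DevFlatRep8

theorem smoothRelDim_baseChange {A B R C : Type u} [CommRing A] [CommRing B] [CommRing R] [CommRing C]
    [Algebra A B] [Algebra A R] [Algebra A C] [Algebra R C] [Algebra B C] [IsScalarTower A R C] [IsScalarTower A B C]
    [Algebra.IsPushout A R B C] {e : ℕ} (h : SmoothRelDim e A B) : SmoothRelDim e R C := by
  have hpo : IsPushout (CommRingCat.ofHom (algebraMap A R)) (CommRingCat.ofHom (algebraMap A B))
      (CommRingCat.ofHom (algebraMap R C)) (CommRingCat.ofHom (algebraMap B C)) := CommRingCat.isPushout_of_isPushout A R B C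
  have sq := AlgebraicGeometry.isPullback_SpecMap_of_isPushout _ _ _ _ hpo
  exact (smoothOfRelativeDimension_isStableUnderBaseChange e).of_isPullback sq.flip h

theorem injective_map_of_killedKer {R C M N : Type u} [CommRing R] [CommRing C] [Algebra R C] [AddCommGroup M]
    [Module C M] [Module R M] [IsScalarTower R C M] [AddCommGroup N] [Module C N] [Module R N] [IsScalarTower R C N]
    {T : Submonoid C} {α : M →ₗ[C] N} (h : RG6.KilledKer R T α) : Function.Injective (LocalizedModule.map T α) := by
  rw [RG6.injective_map_iff]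
  intro y hy
  obtain ⟨w, hw, hwy⟩ := h R (y ⊗ₜ[R] (1 : R))
    (by rw [AlgebraTensorModule.rTensor_tmul, hy, TensorProduct.zero_tmul])
  refine ⟨w, hw, ?_⟩
  have := congrArg (TensorProduct.rid R M) hwy
  simpa [TensorProduct.smul_tmul'] using this

variable {R C : Type u} [CommRing R] [CommRing C] [Algebra R C]

theorem tmul_one_eq_zero (t : Ideal R) [t.IsPrime] {x : C} (hx : x ∈ t.map (algebraMap R C)) :
    x ⊗ₜ[R] (1 : t.ResidueField) = 0 := by
  have hx' : x ∈ t • (⊤ : Submodule R C) := by rw [Ideal.smul_top_eq_map]; exact hx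
  refine Submodule.smul_induction_on hx' (fun a ha c _ => ?_) (fun c c' h h' => by rw [TensorProduct.add_tmul, h, h', add_zero])
  rw [TensorProduct.smul_tmul, Algebra.smul_def, Ideal.algebraMap_residueField_eq_zero.2 ha, zero_mul,
    TensorProduct.tmul_zero]

theorem tmul_one_ne_zero [Module.Flat R C] (t : Ideal R) [t.IsPrime] {x : C} (hx : x ∉ t.map (algebraMap R C)) :
    x ⊗ₜ[R] (1 : t.ResidueField) ≠ 0 := fun h0 => by
  obtain ⟨u, hu, hmem⟩ := WeakAssFib.exists_smul_mem_of_tmul_one_eq_zero t h0
  rw [Ideal.smul_top_eq_map] at hmem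
  exact RG6.fibreNonzero_of_notMem le_rfl hx u hu hmem

theorem isPrime_map [Module.Flat R C] (hgi : GeomIntegralFibres R C) (t : Ideal R) [t.IsPrime] :
    (t.map (algebraMap R C)).IsPrime := by
  haveI := RG6.isDomain_tensor_residueField hgi t
  refine ⟨fun h => one_ne_zero (α := C ⊗[R] t.ResidueField) (tmul_one_eq_zero t (h.ge Submodule.mem_top)), ?_⟩
  intro x y hxy
  by_contra hne
  push Not at hne
  refine mul_ne_zero (tmul_one_ne_zero t hne.1) (tmul_one_ne_zero t hne.2) ?_
  rw [Algebra.TensorProduct.tmul_mul_tmul, mul_one]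
  exact tmul_one_eq_zero t hxy

theorem liesOver_map [Module.Flat R C] (hgi : GeomIntegralFibres R C) (t : Ideal R) [t.IsPrime] :
    (t.map (algebraMap R C)).LiesOver t := by
  refine ⟨le_antisymm Ideal.le_comap_map fun a ha => ?_⟩
  by_contra hat
  refine (isPrime_map hgi t).ne_top ((Ideal.eq_top_iff_one _).2 ?_)
  by_contra h1
  refine RG6.fibreNonzero_of_notMem le_rfl h1 a hat ?_
  rw [Algebra.smul_def, mul_one]; exact ha

theorem exists_base_kill [Algebra.FinitePresentation R C] [Module.Flat R C] (hgi : GeomIntegralFibres R C)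
    (t : Ideal R) [t.IsPrime] {x w : C} (hw : w ∉ t.map (algebraMap R C)) (h : w * x = 0) :
    ∃ a ∉ t, a • x = 0 := by
  obtain ⟨_, ⟨a, ha, rfl⟩, hz⟩ := RG6.exists_mem_smul_eq_zero hgi t.primeCompl w
    (fun p' _ hd => RG6.fibreNonzero_of_notMem
      (fun r hr => by_contra fun hrt => Set.disjoint_left.1 hd hr hrt) hw)
    (r := 1) R ((fun _ : Fin 1 => x) ⊗ₜ[R] (1 : R))
    (by rw [TensorProduct.smul_tmul', show w • (fun _ : Fin 1 => x) = 0 from funext fun _ => h, TensorProduct.zero_tmul])
  refine ⟨a, ha, ?_⟩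
  have h2 := congrArg (TensorProduct.rid R (Fin 1 → C)) hz
  rw [TensorProduct.smul_tmul', TensorProduct.rid_tmul, one_smul, map_zero] at h2
  rw [Algebra.smul_def]
  exact congrFun h2 0

theorem kill_iff_map_eq_bot [Algebra.FinitePresentation R C] [Module.Flat R C] (hgi : GeomIntegralFibres R C)
    (t : Ideal R) [t.IsPrime] [(t.map (algebraMap R C)).IsPrime] (J : Ideal C) :
    J.map (algebraMap C (Localization.AtPrime (t.map (algebraMap R C)))) = ⊥ ↔ ∀ x ∈ J, ∃ a ∉ t, a • x = 0 := by
  rw [eq_bot_iff, Ideal.map_le_iff_le_comap]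
  constructor
  · intro h x hx
    obtain ⟨w, hw⟩ := (IsLocalization.map_eq_zero_iff (t.map (algebraMap R C)).primeCompl _ x).1 (h hx)
    exact exists_base_kill hgi t w.2 hw
  · intro h x hx
    obtain ⟨a, ha, hax⟩ := h x hx
    refine Ideal.mem_comap.2 ((Submodule.mem_bot _).2 ((IsLocalization.map_eq_zero_iff (t.map (algebraMap R C)).primeCompl _ x).2
      ⟨⟨algebraMap R C a, fun h' => ha ?_⟩, by rw [← hax, Algebra.smul_def]⟩))
    exact ((liesOver_map hgi t).over ▸ Ideal.mem_comap.2 h' : a ∈ t)

/-- The generic fibre dimension over the points outside `g`. -/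
def GenDim (R C : Type u) [CommRing R] [CommRing C] [Algebra R C] (g : R) (e : ℕ) : Prop :=
  ∀ (K : Type u) [Field K] [Algebra R K], algebraMap R K g ≠ 0 → Algebra.trdeg K (K ⊗[R] C) = (e : Cardinal.{u})

theorem genDim_of_dvd {g g' : R} {e : ℕ} (h : GenDim R C g e) (hd : g ∣ g') : GenDim R C g' e := fun K _ _ hK =>
  h K fun h0 => hK (zero_dvd_iff.1 (h0 ▸ map_dvd (algebraMap R K) hd))

theorem genDim_baseChange {A B : Type u} [CommRing A] [CommRing B] [Algebra A B] {g : A} {e : ℕ}
    (h : GenDim A B g e) (R : Type u) [CommRing R] [Algebra A R] : GenDim R (R ⊗[A] B) (algebraMap A R g) e := by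
  intro K _ _ hK
  letI : Algebra A K := ((algebraMap R K).comp (algebraMap A R)).toAlgebra
  haveI : IsScalarTower A R K := IsScalarTower.of_algebraMap_eq fun _ => rfl
  rw [(Algebra.TensorProduct.cancelBaseChange A R K K B).trdeg_eq]
  exact h K hK

/-- The transcendence degree of a field generated by a domain of transcendence degree `e`. -/
theorem trdeg_image {k F L : Type u} [Field k] [CommRing F] [IsDomain F] [Algebra k F] [Algebra.FiniteType k F]
    [Field L] [Algebra k L] {e : ℕ} (ht : Algebra.trdeg k F = (e : Cardinal.{u}))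
    (φ : F →ₐ[k] L) (hgen : ∀ z : L, ∃ x w : F, z = φ x / φ w) :
    (RingHom.ker φ.toRingHom = ⊥ → Algebra.trdeg k L = (e : Cardinal.{u})) ∧
      (RingHom.ker φ.toRingHom ≠ ⊥ → Algebra.trdeg k L < (e : Cardinal.{u})) := by
  let I : Ideal F := RingHom.ker φ.toRingHom
  haveI : I.IsPrime := RingHom.ker_isPrime _
  have hsub : I.primeCompl ≤ (IsUnit.submonoid L).comap φ.toRingHom := fun x hx => isUnit_iff_ne_zero.2 hx
  let ψ' : I.ResidueField →+* L := Ideal.ResidueField.lift I φ.toRingHom le_rfl hsub
  have hψ : ∀ x : F, ψ' (algebraMap F I.ResidueField x) = φ x := fun x =>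
    Ideal.ResidueField.lift_algebraMap _ _ _ _ x
  have hc : ∀ c : k, ψ' (algebraMap k I.ResidueField c) = algebraMap k L c := fun c => by
    rw [IsScalarTower.algebraMap_apply k F I.ResidueField, hψ, φ.commutes]
  let ψ : I.ResidueField →ₐ[k] L := { ψ' with commutes' := hc }
  have hbij : Function.Bijective ψ := ⟨ψ.toRingHom.injective, fun z => by
    obtain ⟨x, w, rfl⟩ := hgen z
    refine ⟨algebraMap F _ x / algebraMap F _ w, ?_⟩
    show ψ' _ = _
    rw [map_div₀, hψ, hψ]⟩
  have htr : Algebra.trdeg k L = Algebra.trdeg k (F ⧸ I) :=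
    ((AlgEquiv.ofBijective ψ hbij).trdeg_eq).symm.trans (GrothLib.OrdQuad12.trdeg_residueField_eq I)
  refine ⟨fun hI => ?_, fun hI => ?_⟩
  · rw [htr, ← ht]
    exact AlgEquiv.trdeg_eq ((Ideal.quotientEquivAlgOfEq k (show I = ⊥ from hI)).trans (AlgEquiv.quotientBot k F))
  · obtain ⟨m, hm, hlt⟩ := GrothLib.OrdQuad12.trdeg_quotient_lt ht I hI
    rw [htr, hm]
    exact Nat.cast_lt.2 hlt

section Trdeg

variable [Algebra.Smooth R C] {e : ℕ} {g : R}

theorem trdeg_residue (hgi : GeomIntegralFibres R C) (hsm : GenDim R C g e) (t : Ideal R) [t.IsPrime] (hgt : g ∉ t)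
    (Q : Ideal C) [Q.IsPrime] [h : Q.LiesOver t] :
    letI : Algebra t.ResidueField Q.ResidueField :=
      (Ideal.ResidueField.mapₐ t Q (Algebra.ofId R C) h.over).toRingHom.toAlgebra
    (Q = t.map (algebraMap R C) → Algebra.trdeg t.ResidueField Q.ResidueField = (e : Cardinal.{u})) ∧
      (Q ≠ t.map (algebraMap R C) → Algebra.trdeg t.ResidueField Q.ResidueField < (e : Cardinal.{u})) := by
  letI a₁ : Algebra t.ResidueField Q.ResidueField :=
    (Ideal.ResidueField.mapₐ t Q (Algebra.ofId R C) h.over).toRingHom.toAlgebra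
  haveI : IsScalarTower R t.ResidueField Q.ResidueField := IsScalarTower.of_algebraMap_eq fun r =>
    ((Ideal.ResidueField.mapₐ t Q (Algebra.ofId R C) h.over).commutes r).symm
  let F := t.Fiber C
  haveI : IsDomain F :=
    haveI := RG6.isDomain_tensor_residueField hgi t
    (Algebra.TensorProduct.comm R t.ResidueField C).toMulEquiv.isDomain
  let φ : F →ₐ[t.ResidueField] Q.ResidueField := Algebra.TensorProduct.lift (Algebra.ofId _ _)
    (IsScalarTower.toAlgHom R C Q.ResidueField) fun _ _ => mul_comm _ _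
  have hφ : ∀ c : C, φ (1 ⊗ₜ c) = algebraMap C Q.ResidueField c := fun c => by
    show Algebra.TensorProduct.lift _ _ _ _ = _
    rw [Algebra.TensorProduct.lift_tmul, map_one, one_mul, IsScalarTower.coe_toAlgHom']
  let I : Ideal F := RingHom.ker φ.toRingHom
  have hF : Algebra.trdeg t.ResidueField F = (e : Cardinal.{u}) :=
    hsm t.ResidueField fun h0 => hgt (Ideal.algebraMap_residueField_eq_zero.1 h0)
  have hQ : I = ⊥ ↔ Q = t.map (algebraMap R C) := by
    constructor
    · intro hq
      refine le_antisymm (fun c hc => ?_) (Ideal.map_le_iff_le_comap.2 h.over.le)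
      have h0 : (1 : t.ResidueField) ⊗ₜ[R] c = 0 := by
        have : ((1 : t.ResidueField) ⊗ₜ[R] c : F) ∈ I := by
          show φ _ = 0
          rw [hφ]; exact Ideal.algebraMap_residueField_eq_zero.2 hc
        rwa [hq, Submodule.mem_bot] at this
      by_contra hne
      exact tmul_one_ne_zero t hne (by rw [← TensorProduct.comm_tmul, h0, map_zero])
    · intro hQt
      refine eq_bot_iff.2 fun z hz => (Submodule.mem_bot _).2 ?_
      obtain ⟨r, hr, c, hc⟩ := Ideal.Fiber.exists_smul_eq_one_tmul t z
      have hr0 : algebraMap R t.ResidueField r ≠ 0 := fun h0 => hr (Ideal.algebraMap_residueField_eq_zero.1 h0)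
      have hcQ : c ∈ Q := by
        refine Ideal.algebraMap_residueField_eq_zero.1 ?_
        rw [← hφ, ← hc, ← algebraMap_smul t.ResidueField r z, map_smul, (show φ z = 0 from hz), smul_zero]
      have h0 : (1 : t.ResidueField) ⊗ₜ[R] c = 0 := by
        rw [← TensorProduct.comm_tmul, tmul_one_eq_zero t (hQt ▸ hcQ), map_zero]
      rw [h0, ← algebraMap_smul t.ResidueField r z] at hc
      exact (smul_eq_zero.1 hc).resolve_left hr0
  have hT := trdeg_image hF φ fun z => by
    obtain ⟨x, w, hw, hz⟩ := IsFractionRing.div_surjective (A := C ⧸ Q) z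
    obtain ⟨x, rfl⟩ := Ideal.Quotient.mk_surjective x
    obtain ⟨w, rfl⟩ := Ideal.Quotient.mk_surjective w
    refine ⟨1 ⊗ₜ x, 1 ⊗ₜ w, ?_⟩
    rw [hφ, hφ, ← hz]
    rfl
  exact ⟨fun hq => hT.1 (hQ.2 hq), fun hq => hT.2 fun h0 => hq (hQ.1 h0)⟩

theorem fdg_of_lt (hgi : GeomIntegralFibres R C) (hsm : GenDim R C g e) {n : ℕ} (hn : e < n)
    (G : Type u) [AddCommGroup G] [Module C G] [Module R G] [IsScalarTower R C G] : FDg g n C G := by
  intro t Q _ _ _ hgt _
  rcases eq_or_ne Q (t.map (algebraMap R C)) with hQ | hQ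
  · rw [(trdeg_residue hgi hsm t hgt Q).1 hQ]; exact Nat.cast_lt.2 hn
  · exact ((trdeg_residue hgi hsm t hgt Q).2 hQ).trans (Nat.cast_lt.2 hn)

theorem flatAt_generic_of_fdg (hgi : GeomIntegralFibres R C) (hsm : GenDim R C g e) {n : ℕ} (hn : n ≤ e)
    {G : Type u} [AddCommGroup G] [Module C G] [Module R G] [IsScalarTower R C G] (h : FDg g n C G)
    (t : Ideal R) [t.IsPrime] [(t.map (algebraMap R C)).IsPrime] (hg : g ∉ t) : FlatAt R (t.map (algebraMap R C)) G := by
  haveI := liesOver_map hgi t
  by_contra hne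
  refine (h t _ hg hne).not_ge ?_
  rw [(trdeg_residue hgi hsm t hg _).1 rfl]
  exact Nat.cast_le.2 hn

theorem fdg_top_iff (hgi : GeomIntegralFibres R C) (hsm : GenDim R C g e) (G : Type u) [AddCommGroup G]
    [Module C G] [Module R G] [IsScalarTower R C G] :
    FDg g e C G ↔ ∀ (t : Ideal R) [t.IsPrime] [(t.map (algebraMap R C)).IsPrime], g ∉ t → FlatAt R (t.map (algebraMap R C)) G := by
  refine ⟨fun h t _ _ hg => flatAt_generic_of_fdg hgi hsm le_rfl h t hg, fun h t Q _ _ _ hg hQ => ?_⟩
  refine (trdeg_residue hgi hsm t hg Q).2 ?_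
  rintro rfl
  exact hQ (h t hg)

end Trdeg

section Free

variable [Algebra.FinitePresentation R C] [Module.Flat R C] {G : Type u} [AddCommGroup G] [Module C G] [Module R G]
  [IsScalarTower R C G] [Module.Finite C G] (hgi : GeomIntegralFibres R C) (t : Ideal R) [t.IsPrime]
  [(t.map (algebraMap R C)).IsPrime]

include hgi in
/-- A residual basis at the generic point of a flat module is a basis. -/
theorem basis_of_flatAt {r : ℕ} (α : (Fin r → C) →ₗ[C] G)
    (hα : Function.Bijective (α.baseChange (t.map (algebraMap R C)).ResidueField))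
    (h : FlatAt R (t.map (algebraMap R C)) G) :
    Nonempty (Module.Basis (Fin r) (Localization.AtPrime (t.map (algebraMap R C)))
      (LocalizedModule (t.map (algebraMap R C)).primeCompl G)) := by
  let P := t.map (algebraMap R C)
  haveI : P.LiesOver t := liesOver_map hgi t
  have hk : RG6.KilledKer R P.primeCompl α := RG6.killedKer_generic P α hgi t h hα
  have hinj : Function.Injective (LocalizedModule.map P.primeCompl α) := injective_map_of_killedKer hk
  exact ⟨((Pi.basisFun C (Fin r)).ofIsLocalizedModule (Localization.AtPrime P) P.primeCompl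
    (LocalizedModule.mkLinearMap P.primeCompl (Fin r → C))).map
      (LinearEquiv.ofBijective (LocalizedModule.map P.primeCompl α) ⟨hinj, RG6.surjective_map_of_bijective P α hα⟩)⟩

theorem flatAt_of_basis {r : ℕ} (b : Module.Basis (Fin r) (Localization.AtPrime (t.map (algebraMap R C)))
    (LocalizedModule (t.map (algebraMap R C)).primeCompl G)) : FlatAt R (t.map (algebraMap R C)) G := by
  haveI : Module.Flat R (Localization.AtPrime (t.map (algebraMap R C))) := Module.Flat.trans R C _
  haveI : Module.Flat R (Fin r → Localization.AtPrime (t.map (algebraMap R C))) := RG6.flat_pi r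
  exact Module.Flat.of_linearEquiv (b.equivFun.restrictScalars R)

include hgi in
theorem kill_fitting_of_flatAt {r : ℕ} (α : (Fin r → C) →ₗ[C] G)
    (hα : Function.Bijective (α.baseChange (t.map (algebraMap R C)).ResidueField))
    (h : FlatAt R (t.map (algebraMap R C)) G) {k : ℕ} (hk : k < r) :
    ∀ x ∈ Fitt.ideal C G k, ∃ a ∉ t, a • x = 0 := by
  obtain ⟨b⟩ := basis_of_flatAt hgi t α hα h
  refine (kill_iff_map_eq_bot hgi t _).1 ?_
  rw [← Fitting.ideal_localized]
  exact (Fitting.ideal_of_basis b k).trans (if_neg (not_le.2 hk))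

include hgi in
/-- Flatness at the generic point is the Fitting ideals being zero or the unit ideal there. -/
theorem flatAt_iff_fitting :
    FlatAt R (t.map (algebraMap R C)) G ↔
      ∀ k, ¬ Fitt.ideal C G k ≤ t.map (algebraMap R C) ∨ ∀ x ∈ Fitt.ideal C G k, ∃ a ∉ t, a • x = 0 := by
  classical
  let P := t.map (algebraMap R C)
  have htop : ∀ k, ¬ Fitt.ideal C G k ≤ P ↔ Fitt.ideal (Localization.AtPrime P) (LocalizedModule P.primeCompl G) k = ⊤ := by
    intro k
    rw [show Fitt.ideal (Localization.AtPrime P) (LocalizedModule P.primeCompl G) k =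
      (Fitt.ideal C G k).map (algebraMap C (Localization.AtPrime P)) from Fitting.ideal_localized P.primeCompl k,
      Fitting.map_eq_top_iff P.primeCompl, SetLike.not_le_iff_exists, Set.not_disjoint_iff]
    exact ⟨fun ⟨x, h1, h2⟩ => ⟨x, h2, h1⟩, fun ⟨x, h1, h2⟩ => ⟨x, h2, h1⟩⟩
  constructor
  · intro h k
    obtain ⟨r, α, hα⟩ := RG6.exists_bijective_baseChange (N := G) P
    obtain ⟨b⟩ := basis_of_flatAt hgi t α hα h
    by_cases hk : r ≤ k
    · exact Or.inl ((htop k).2 ((Fitting.ideal_of_basis b k).trans (if_pos hk)))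
    · exact Or.inr (kill_fitting_of_flatAt hgi t α hα h (not_le.1 hk))
  · intro h
    have hex : ∃ k, ¬ Fitt.ideal C G k ≤ P := by
      obtain ⟨n, x, hx⟩ := Fitting.exists_tuple C G
      exact ⟨n, fun hle => ‹P.IsPrime›.ne_top (top_le_iff.1 ((Fitting.ideal_eq_top_of_le x hx le_rfl).ge.trans hle))⟩
    haveI : Module.Finite (Localization.AtPrime P) (LocalizedModule P.primeCompl G) :=
      Module.Finite.of_isLocalizedModule P.primeCompl (LocalizedModule.mkLinearMap P.primeCompl G)
    obtain ⟨b⟩ := RankStratum9.stalk_basis_of_ideals (R := Localization.AtPrime P)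
      (M := LocalizedModule P.primeCompl G) (Nat.find hex) (fun k hk => by
        rw [show Fitt.ideal (Localization.AtPrime P) (LocalizedModule P.primeCompl G) k =
          (Fitt.ideal C G k).map (algebraMap C (Localization.AtPrime P)) from Fitting.ideal_localized P.primeCompl k]
        exact (kill_iff_map_eq_bot hgi t _).2 ((h k).resolve_left (Nat.find_min hex hk)))
      ((htop _).1 (Nat.find_spec hex))
    exact flatAt_of_basis t b

include hgi in
/-- Universal injectivity over the base near `t` from the Fitting ideals at the generic point. -/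
theorem killedKer_of_fitting {r : ℕ} (α : (Fin r → C) →ₗ[C] G)
    (hlow : ∀ k < r, ∀ x ∈ Fitt.ideal C G k, ∃ a ∉ t, a • x = 0)
    (hcok : ¬ Fitt.ideal C (G ⧸ LinearMap.range α) 0 ≤ t.map (algebraMap R C)) :
    RG6.KilledKer R (Algebra.algebraMapSubmonoid C t.primeCompl) α := by
  classical
  let P := t.map (algebraMap R C)
  obtain ⟨w, hw, hwP⟩ := SetLike.not_le_iff_exists.1 hcok
  have hann := Module.mem_annihilator.1 (Fitting.ideal_zero_le_annihilator hw)
  let L := Localization.AtPrime P
  have hsurj : Function.Surjective (LocalizedModule.map P.primeCompl α) := fun y => by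
    induction y using LocalizedModule.induction_on with
    | _ m s =>
      obtain ⟨x, hx⟩ : w • m ∈ LinearMap.range α := by
        rw [← Submodule.Quotient.mk_eq_zero, Submodule.Quotient.mk_smul]
        exact hann _
      refine ⟨LocalizedModule.mk x (⟨w, hwP⟩ * s), ?_⟩
      rw [LocalizedModule.map_mk, hx, LocalizedModule.mk_eq]
      exact ⟨1, by simp [Submonoid.smul_def, smul_smul, mul_comm]⟩
  let bF := (Pi.basisFun C (Fin r)).ofIsLocalizedModule L P.primeCompl
    (LocalizedModule.mkLinearMap P.primeCompl (Fin r → C))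
  let f := LocalizedModule.map P.primeCompl α
  haveI : Module.Finite L (LocalizedModule P.primeCompl G) :=
    Module.Finite.of_isLocalizedModule P.primeCompl (LocalizedModule.mkLinearMap P.primeCompl G)
  have hspan : Submodule.span L (Set.range (f ∘ bF)) = ⊤ := by
    rw [Set.range_comp, ← Submodule.map_span, bF.span_eq, Submodule.map_top, LinearMap.range_eq_top]
    exact hsurj
  obtain ⟨b⟩ := RankStratum9.stalk_basis_of_ideals (R := L) (M := LocalizedModule P.primeCompl G) r
    (fun k hk => by
      rw [show Fitt.ideal L (LocalizedModule P.primeCompl G) k =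
        (Fitt.ideal C G k).map (algebraMap C L) from Fitting.ideal_localized P.primeCompl k]
      exact (kill_iff_map_eq_bot hgi t _).2 (hlow k hk))
    (Fitting.ideal_eq_top_of_le _ hspan le_rfl)
  have hbij : Function.Bijective f := by
    refine ⟨?_, hsurj⟩
    haveI : Module.Finite L (LocalizedModule P.primeCompl (Fin r → C)) := Module.Finite.of_basis bF
    have := OrzechProperty.injective_of_surjective_endomorphism
      ((b.equiv bF (Equiv.refl _)).toLinearMap ∘ₗ f) ((b.equiv bF (Equiv.refl _)).surjective.comp hsurj)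
    exact fun x y hxy => this (by simp only [LinearMap.comp_apply, hxy])
  exact RG6.killedKer_of_regular hgi P.primeCompl t.primeCompl
    (fun x hx p' _ hd => RG6.fibreNonzero_of_notMem
      (fun a ha => by_contra fun hat => Set.disjoint_left.1 hd ha hat) hx)
    (RG6.killedKer_of_bijective P.primeCompl α hbij)

end Free

end GrothLib.DevFlatRep8
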