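import Groth.Agent.Lib.DevFlatRep8.Scheme
import Groth.Agent.Lib.DevFlatRep8.Content
import Groth.Agent.Lib.DevFlatRep8.Generic
import Groth.Agent.Lib.RGProj13.DevissageLoc

/-!
# Representability of flatness in dimensions `≥ d` near a prime with a complete dévissage
-/

set_option autoImplicit false
set_option linter.style.haveILetI false
set_option backward.isDefEq.respectTransparency false
set_option maxHeartbeats 600000

universe u

open TensorProduct FlatCA CategoryTheory CategoryTheory.Limits AlgebraicGeometry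

namespace GrothLib.DevFlatRep8

instance smulComm_algebras {B R C : Type u} [CommRing B] [CommRing R] [CommRing C] [Algebra B C] [Algebra R C] :
    SMulCommClass B R C :=
  ⟨fun b r c => by simp only [Algebra.smul_def]; exact mul_left_comm _ _ _⟩

instance isPushout_self {A B : Type u} [CommRing A] [CommRing B] [Algebra A B] : Algebra.IsPushout A A B B :=
  ⟨IsBaseChange.ofEquiv (LinearEquiv.refl A B)⟩

attribute [local instance] Algebra.TensorProduct.rightAlgebra

/-- Flatness of the base change to `R` in dimensions `≥ n` away from `g`. -/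
def Phi (A B : Type u) [CommRing A] [CommRing B] [Algebra A B] (M : Type u) [AddCommGroup M] [Module B M]
    (R : Type u) [CommRing R] [Algebra A R] (g : A) (n : ℕ) : Prop :=
  FDg (algebraMap A R g) n (R ⊗[A] B) ((R ⊗[A] B) ⊗[B] M)

section Basic

variable {A B : Type u} [CommRing A] [CommRing B] [Algebra A B] {M : Type u} [AddCommGroup M] [Module B M]

theorem phi_abstract (R C : Type u) [CommRing R] [CommRing C] [Algebra A R] [Algebra A C] [Algebra R C] [Algebra B C]
    [IsScalarTower A R C] [IsScalarTower A B C] [Algebra.IsPushout A R B C] {G : Type u} [AddCommGroup G]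
    [Module C G] [Module R G] [IsScalarTower R C G] [Module B G] [IsScalarTower B C G] (φ : M →ₗ[B] G)
    (hφ : IsBaseChange C φ) (g : A) (n : ℕ) : FDg (algebraMap A R g) n C G ↔ Phi A B M R g n :=
  fdg_transfer (algebraMap A R g) n (A := A) (B := B) (B₂ := B) C (R ⊗[A] B) M φ hφ
    (TensorProduct.mk B (R ⊗[A] B) M 1) (TensorProduct.isBaseChange B M (R ⊗[A] B))

theorem phi_finite {B₂ : Type u} [CommRing B₂] [Algebra B B₂] [Algebra A B₂] [IsScalarTower A B B₂]
    [Module.Finite B B₂] [Module B₂ M] [IsScalarTower B B₂ M] (R : Type u) [CommRing R] [Algebra A R] (g : A) (n : ℕ) :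
    Phi A B M R g n ↔ Phi A B₂ M R g n :=
  fdg_transfer (algebraMap A R g) n (A := A) (B := B) (B₂ := B₂) (R ⊗[A] B) (R ⊗[A] B₂) M
    (TensorProduct.mk B (R ⊗[A] B) M 1) (TensorProduct.isBaseChange B M (R ⊗[A] B))
    (TensorProduct.mk B₂ (R ⊗[A] B₂) M 1) (TensorProduct.isBaseChange B₂ M (R ⊗[A] B₂))

theorem phi_congr {M' : Type u} [AddCommGroup M'] [Module B M'] (e : M ≃ₗ[B] M') (R : Type u) [CommRing R]
    [Algebra A R] (g : A) (n : ℕ) : Phi A B M R g n ↔ Phi A B M' R g n :=
  fdg_congr _ _ (e.baseChange B (R ⊗[A] B) _ _)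

end Basic

theorem exists_kill_all {R : Type u} [CommRing R] (I : Ideal R) (hI : I.FG) (s : Ideal R) [s.IsPrime]
    (h : ∀ y ∈ I, ∃ a ∉ s, a * y = 0) : ∃ a ∉ s, ∀ y ∈ I, a * y = 0 := by
  classical
  obtain ⟨S, rfl⟩ := hI
  choose! a ha ha' using h
  refine ⟨∏ y ∈ S, a y, fun hm => ?_, fun y hy => ?_⟩
  · obtain ⟨y, hy, hys⟩ := (Ideal.IsPrime.prod_mem_iff (p := s)).1 hm
    exact ha y (Ideal.subset_span hy) hys
  · induction hy using Submodule.span_induction with
    | mem y hy =>
      obtain ⟨c, hc⟩ := Finset.dvd_prod_of_mem a hy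
      rw [hc, mul_comm (a y), mul_assoc, ha' y (Ideal.subset_span hy), mul_zero]
    | zero => exact mul_zero _
    | add x y _ _ hx hy => rw [mul_add, hx, hy, add_zero]
    | smul r x _ hx => rw [smul_eq_mul, mul_left_comm, hx, mul_zero]

section Layer

variable {A B : Type u} [CommRing A] [CommRing B] [Algebra A B] [Algebra.Smooth A B] (hgi : GeomIntegralFibres A B)
  {M : Type u} [AddCommGroup M] [Module B M] [Module.FinitePresentation B M]

include hgi in
/-- The contents of the Fitting ideals detect flatness at the generic points of the fibres after every base change. -/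
theorem exists_fitting_contents :
    ∃ (b : ℕ → Ideal A) (c : ℕ), (∀ k, (b k).FG) ∧ ∀ (R : Type u) [CommRing R] [Algebra A R] (t : Ideal R) [t.IsPrime]
      [(t.map (algebraMap R (R ⊗[A] B))).IsPrime],
      FlatAt R (t.map (algebraMap R (R ⊗[A] B))) ((R ⊗[A] B) ⊗[B] M) ↔
        ∀ k < c, ¬ (b k).map (algebraMap A R) ≤ t ∨ ∀ y ∈ (b k).map (algebraMap A R), ∃ a ∉ t, a * y = 0 := by
  haveI := RGProj13.projective_of_smooth hgi
  choose b hbfg hb using fun k => exists_content (A := A) (Fitt.ideal B M k) (Fitting.ideal_fg k)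
  obtain ⟨c, x, hx⟩ := Fitting.exists_tuple B M
  refine ⟨b, c, hbfg, fun R _ _ t _ _ => ?_⟩
  haveI : Module.Flat R (R ⊗[A] B) := inferInstance
  let G := (R ⊗[A] B) ⊗[B] M
  have hF : ∀ k, Fitt.ideal (R ⊗[A] B) G k = (Fitt.ideal B M k).map (algebraMap B (R ⊗[A] B)) := fun k =>
    Fitting.ideal_of_isBaseChange (R ⊗[A] B) (TensorProduct.isBaseChange B M (R ⊗[A] B)) k
  rw [flatAt_iff_fitting (RGProj13.geomIntegralFibres_baseChange R hgi) t]
  constructor
  · intro h k _
    rcases h k with h1 | h1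
    · exact Or.inl fun hle => h1 (by rw [hF]; exact (((hb k) R (R ⊗[A] B)).1 t).1 hle)
    · exact Or.inr (((hb k) R (R ⊗[A] B)).2 t (by rw [← hF]; exact h1))
  · intro h k
    by_cases hk : k < c
    · rcases h k hk with h1 | h1
      · exact Or.inl fun hle => h1 ((((hb k) R (R ⊗[A] B)).1 t).2 (by rw [← hF]; exact hle))
      · refine Or.inr fun y hy => ?_
        let K : Ideal R := RingHom.ker (algebraMap R (Localization.AtPrime t))
        have hle : (b k).map (algebraMap A R) ≤ K := fun z hz => by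
          obtain ⟨a, ha, haz⟩ := h1 z hz
          exact (IsLocalization.map_eq_zero_iff t.primeCompl (Localization.AtPrime t) z).2 ⟨⟨a, ha⟩, haz⟩
        have hy' : y ∈ K • (⊤ : Submodule R (R ⊗[A] B)) := by
          rw [Ideal.smul_top_eq_map]
          rw [hF] at hy
          exact (((hb k) R (R ⊗[A] B)).1 K).1 hle hy
        refine Submodule.smul_induction_on hy' (fun r hr z _ => ?_) ?_
        · obtain ⟨a, ha⟩ := (IsLocalization.map_eq_zero_iff t.primeCompl (Localization.AtPrime t) r).1 hr
          exact ⟨a, a.2, by rw [smul_smul, ha, zero_smul]⟩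
        · rintro y z ⟨a, ha, hy⟩ ⟨a', ha', hz⟩
          exact ⟨a * a', fun hm => (‹t.IsPrime›.mem_or_mem hm).elim ha ha',
            by rw [smul_add, mul_smul, mul_smul, hz, smul_zero, add_zero, smul_comm, hy, smul_zero]⟩
    · refine Or.inl fun hle => ?_
      have : Fitt.ideal B M k = ⊤ := Fitting.ideal_eq_top_of_le x hx (not_lt.1 hk)
      rw [hF, this, Ideal.map_top] at hle
      exact Ideal.IsPrime.ne_top inferInstance (top_le_iff.1 hle)

include hgi in
/-- The generic fibre dimension is constant near a point of the base. -/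
theorem exists_genDim (s : Ideal A) [s.IsPrime] : ∃ g ∉ s, ∃ e : ℕ, GenDim A B g e := by
  haveI := RGProj13.projective_of_smooth hgi
  haveI := isPrime_map hgi s
  obtain ⟨f, hf, hstd⟩ := Algebra.IsSmoothAt.exists_notMem_isStandardSmooth A (s.map (algebraMap A B))
  let Bf := Localization.Away f
  obtain ⟨ι, σ, _, _, ⟨P⟩⟩ := hstd.out
  haveI : Algebra.IsStandardSmoothOfRelativeDimension P.dimension A Bf := ⟨ι, σ, _, inferInstance, P, rfl⟩
  obtain ⟨b, -, hb⟩ := exists_content (A := A) (Ideal.span {f}) (Submodule.fg_span_singleton f)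
  obtain ⟨g, hgb, hgs⟩ : ∃ g ∈ b, g ∉ s := by
    refine SetLike.not_le_iff_exists.1 fun hle => hf ?_
    have := ((hb A B).1 s).1 (by rw [Algebra.algebraMap_self, Ideal.map_id]; exact hle)
    rw [Algebra.algebraMap_self, Ideal.map_id] at this
    exact this (Ideal.mem_span_singleton_self f)
  refine ⟨g, hgs, P.dimension, fun K _ _ hK => ?_⟩
  let C := K ⊗[A] B
  have hgiK : GeomIntegralFibres K C := RGProj13.geomIntegralFibres_baseChange K hgi
  have hp := isPrime_map hgiK (⊥ : Ideal K)
  rw [Ideal.map_bot] at hp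
  haveI : IsDomain C := IsDomain.of_bot_isPrime C
  have hf0 : algebraMap B C f ≠ 0 := fun h0 => hK ((Submodule.mem_bot _).1
    (((hb K C).1 ⊥).2 (by rw [Ideal.map_span, Set.image_singleton, h0, Ideal.map_bot, Ideal.span_singleton_eq_bot.2 rfl])
      (Ideal.mem_map_of_mem _ hgb)))
  let CF := C ⊗[B] Bf
  haveI : IsLocalization.Away (algebraMap B C f) CF := inferInstance
  haveI : IsDomain CF := IsLocalization.isDomain_of_le_nonZeroDivisors CF (M := Submonoid.powers (algebraMap B C f))
    (powers_le_nonZeroDivisors_of_noZeroDivisors hf0)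
  haveI : FaithfulSMul C CF := (faithfulSMul_iff_algebraMap_injective _ _).2
    (IsLocalization.injective CF (powers_le_nonZeroDivisors_of_noZeroDivisors hf0))
  haveI : Algebra.IsAlgebraic C CF := IsLocalization.isAlgebraic _ (Submonoid.powers (algebraMap B C f))
  haveI : FaithfulSMul K C := (faithfulSMul_iff_algebraMap_injective _ _).2 (algebraMap K C).injective
  have h2 := trdeg_add_eq K C (A := CF)
  have h3 : Algebra.trdeg C CF = 0 := trdeg_eq_zero
  rw [h3, add_zero] at h2
  haveI : Algebra.IsPushout A B K C := Algebra.IsPushout.symm inferInstance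
  haveI : IsScalarTower A Bf CF := IsScalarTower.of_algebraMap_eq fun a => by
    rw [IsScalarTower.algebraMap_apply A B Bf, ← IsScalarTower.algebraMap_apply B Bf CF,
      IsScalarTower.algebraMap_apply B C CF, ← IsScalarTower.algebraMap_apply A B C, ← IsScalarTower.algebraMap_apply A C CF]
  haveI : Algebra.IsPushout B Bf C CF := Algebra.IsPushout.symm inferInstance
  haveI : Algebra.IsPushout A K Bf CF := Algebra.IsPushout.symm
    ((Algebra.IsPushout.comp_iff (R := A) (S := B) (R' := K) (S' := C) (T := Bf) (T' := CF)).2 inferInstance)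
  let e := Algebra.IsPushout.equiv A K Bf CF
  rw [h2, ← e.trdeg_eq]
  haveI : IsDomain (K ⊗[A] Bf) := e.toMulEquiv.isDomain
  haveI : FaithfulSMul K (K ⊗[A] Bf) := (faithfulSMul_iff_algebraMap_injective K (K ⊗[A] Bf)).2 (algebraMap K (K ⊗[A] Bf)).injective
  exact GenericSmooth.trdeg_of_isStandardSmooth P.dimension K (K ⊗[A] Bf)

include hgi in
/-- Flatness in the top dimension is represented by a monomorphism. -/
theorem exists_rep_top {e : ℕ} {g : A} (hsm : GenDim A B g e) :
    ∃ (Z : Scheme.{u}) (i : Z ⟶ Spec (CommRingCat.of A)), Mono i ∧ LocallyOfFinitePresentation i ∧ QuasiCompact i ∧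
      ∀ (R : Type u) [CommRing R] [Algebra A R], IsUnit (algebraMap A R g) →
        (Phi A B M R g e ↔ ∃ k : Spec (CommRingCat.of R) ⟶ Z, k ≫ i = Spec.map (CommRingCat.ofHom (algebraMap A R))) := by
  obtain ⟨b, c, hfg, hb⟩ := exists_fitting_contents hgi (M := M)
  obtain ⟨Z, i, hm, hlfp, hqc, hZ⟩ := exists_rep_idempotents b c fun k _ => hfg k
  refine ⟨Z, i, hm, hlfp, hqc, fun R _ _ hg => ?_⟩
  rw [← hZ R]
  have hgiR := RGProj13.geomIntegralFibres_baseChange R hgi
  show FDg _ e _ _ ↔ _
  rw [fdg_top_iff hgiR (genDim_baseChange hsm R)]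
  constructor
  · intro h k hk
    rw [idempotent_iff_zero_or_top _ ((hfg k).map _)]
    intro t _
    haveI := isPrime_map hgiR t
    exact (hb R t).1 (h t fun hgt => ‹t.IsPrime›.ne_top (Ideal.eq_top_of_isUnit_mem _ hgt hg)) k hk
  · intro h t _ _ _
    exact (hb R t).2 fun k hk => (idempotent_iff_zero_or_top _ ((hfg k).map _)).1 (h k hk) t

include hgi in
/-- One step: replacing the module by the cokernel of `α` near `s`. -/
theorem exists_step {r : ℕ} (α : (Fin r → B) →ₗ[B] M) (s : Ideal A) [s.IsPrime]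
    [(s.map (algebraMap A B)).IsPrime] [Module A M] [IsScalarTower A B M]
    (hα : Function.Bijective (α.baseChange (s.map (algebraMap A B)).ResidueField))
    (hflat : FlatAt A (s.map (algebraMap A B)) M) :
    ∃ a ∉ s, ∀ g : A, a ∣ g → ∀ (R : Type u) [CommRing R] [Algebra A R] (n : ℕ),
      Phi A B M R g n ↔ Phi A B (M ⧸ LinearMap.range α) R g n := by
  classical
  haveI := RGProj13.projective_of_smooth hgi
  let M₁ := M ⧸ LinearMap.range α
  haveI : Module.FinitePresentation B M₁ :=
    Module.finitePresentation_of_surjective (LinearMap.range α).mkQ (Submodule.mkQ_surjective _)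
      (by rw [Submodule.ker_mkQ, LinearMap.range_eq_map]; exact (Module.Finite.fg_top).map α)
  choose b hbfg hb using fun k => exists_content (A := A) (Fitt.ideal B M k) (Fitting.ideal_fg k)
  obtain ⟨b₁, -, hb₁⟩ := exists_content (A := A) (Fitt.ideal B M₁ 0) (Fitting.ideal_fg 0)
  have hkill : ∀ k < r, ∃ a ∉ s, ∀ y ∈ b k, a * y = 0 := fun k hk => by
    refine exists_kill_all _ (hbfg k) s fun y hy => ?_
    refine ((hb k) A B).2 s ?_ y (by rw [Algebra.algebraMap_self, Ideal.map_id]; exact hy)
    rw [Algebra.algebraMap_self, Ideal.map_id]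
    exact kill_fitting_of_flatAt hgi s α hα hflat hk
  choose! a ha ha' using hkill
  obtain ⟨w, hw, hws⟩ : ∃ w ∈ b₁, w ∉ s := by
    refine SetLike.not_le_iff_exists.1 fun hle => ?_
    have hnot : ¬ Fitt.ideal B M₁ 0 ≤ s.map (algebraMap A B) := by
      rw [Fitting.not_le_iff_finrank_fiber_le]
      let κ := (s.map (algebraMap A B)).ResidueField
      haveI : Subsingleton (κ ⊗[B] M₁) := by
        refine ⟨fun x y => ?_⟩
        suffices h0 : ∀ z : κ ⊗[B] M₁, z = 0 by rw [h0 x, h0 y]
        intro z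
        obtain ⟨z', rfl⟩ := LinearMap.lTensor_surjective κ (Submodule.mkQ_surjective (LinearMap.range α)) z
        obtain ⟨v, rfl⟩ := hα.2 z'
        show (LinearMap.range α).mkQ.lTensor κ (α.lTensor κ v) = 0
        rw [← LinearMap.lTensor_comp_apply, LinearMap.range_mkQ_comp, LinearMap.lTensor_zero, LinearMap.zero_apply]
      exact (Module.finrank_zero_of_subsingleton).le
    have := (((hb₁) A B).1 s).1 (by rw [Algebra.algebraMap_self, Ideal.map_id]; exact hle)
    rw [Algebra.algebraMap_self, Ideal.map_id] at this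
    exact hnot this
  refine ⟨(∏ k ∈ Finset.range r, a k) * w, fun hm => (‹s.IsPrime›.mem_or_mem hm).elim (fun h' => ?_) hws,
    fun g hg R _ _ n => ?_⟩
  · obtain ⟨k, hk, hks⟩ := (Ideal.IsPrime.prod_mem_iff (p := s)).1 h'
    exact ha k (Finset.mem_range.1 hk) hks
  let C := R ⊗[A] B
  let G := C ⊗[B] M
  let αC : (Fin r → C) →ₗ[C] G := (α.baseChange C).comp (TensorProduct.piScalarRight B C C (Fin r)).symm.toLinearMap
  let q : G →ₗ[C] C ⊗[B] M₁ := (LinearMap.range α).mkQ.baseChange C
  have hq : Function.Surjective q := LinearMap.lTensor_surjective C (Submodule.mkQ_surjective _)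
  have hker : LinearMap.range αC = LinearMap.ker q := by
    refine SetLike.ext fun z => ?_
    have hex := lTensor_exact C (LinearMap.exact_map_mkQ_range α) (Submodule.mkQ_surjective _)
    rw [LinearMap.mem_ker]
    refine Iff.trans ?_ (hex z).symm
    simp only [αC, LinearMap.mem_range, LinearMap.comp_apply, LinearEquiv.coe_coe, Set.mem_range]
    exact ⟨fun ⟨v, hv⟩ => ⟨_, hv⟩, fun ⟨v, hv⟩ => ⟨TensorProduct.piScalarRight B C C (Fin r) v, by
      exact (congrArg (α.baseChange C) (LinearEquiv.symm_apply_apply _ v)).trans hv⟩⟩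
  let E : (G ⧸ LinearMap.range αC) ≃ₗ[C] C ⊗[B] M₁ :=
    Submodule.quotEquivOfEq _ _ hker ≪≫ₗ q.quotKerEquivOfSurjective hq
  show FDg _ n C G ↔ FDg _ n C (C ⊗[B] M₁)
  rw [← fdg_congr _ n E]
  have hgiR := RGProj13.geomIntegralFibres_baseChange R hgi
  have key : ∀ (t : Ideal R) (Q : Ideal C) [t.IsPrime] [Q.IsPrime] [Q.LiesOver t], algebraMap A R g ∉ t →
      (FlatAt R Q G ↔ FlatAt R Q (G ⧸ LinearMap.range αC)) := by
    intro t Q _ _ hQt hgt
    haveI := isPrime_map hgiR t
    have hne : ∀ x : A, x ∣ g → algebraMap A R x ∉ t := fun x hx hxt =>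
      hgt (Ideal.mem_of_dvd _ (map_dvd (algebraMap A R) hx) hxt)
    have hlow : ∀ k < r, ∀ x ∈ Fitt.ideal C G k, ∃ c ∉ t, c • x = 0 := by
      intro k hk x hx
      refine ⟨algebraMap A R (a k), hne _ ((Finset.dvd_prod_of_mem a (Finset.mem_range.2 hk)).trans
        ((dvd_mul_right _ _).trans hg)), ?_⟩
      rw [show Fitt.ideal C G k = (Fitt.ideal B M k).map (algebraMap B C) from
        Fitting.ideal_of_isBaseChange C (TensorProduct.isBaseChange B M C) k] at hx
      let K : Ideal R := RingHom.ker (algebraMap R C) ⊔ (⊥ : Ideal R).colon {algebraMap A R (a k)}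
      let K' : Ideal R := (⊥ : Ideal R).colon {algebraMap A R (a k)}
      have hle : (b k).map (algebraMap A R) ≤ K' := by
        refine Ideal.map_le_iff_le_comap.2 fun y hy => ?_
        refine Submodule.mem_colon_singleton.2 ?_
        rw [smul_eq_mul, ← map_mul, mul_comm, ha' k hk y hy, map_zero]
        exact zero_mem _
      have hx' : x ∈ K' • (⊤ : Submodule R C) := by
        rw [Ideal.smul_top_eq_map]; exact (((hb k) R C).1 K').1 hle hx
      refine Submodule.smul_induction_on hx' (fun y hy z _ => ?_) fun y z hy hz => by rw [smul_add, hy, hz, add_zero]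
      have h0 := (Submodule.mem_bot _).1 (Submodule.mem_colon_singleton.1 hy)
      rw [smul_eq_mul, mul_comm] at h0
      rw [smul_smul, h0, zero_smul]
    have hcok : ¬ Fitt.ideal C (G ⧸ LinearMap.range αC) 0 ≤ t.map (algebraMap R C) := by
      rw [Fitting.ideal_congr E, show Fitt.ideal C (C ⊗[B] M₁) 0 = (Fitt.ideal B M₁ 0).map (algebraMap B C) from
        Fitting.ideal_of_isBaseChange C (TensorProduct.isBaseChange B M₁ C) 0]
      intro hle
      exact hne w ((dvd_mul_left _ _).trans hg) (((hb₁ R C).1 t).2 hle (Ideal.mem_map_of_mem _ hw))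
    have hK := killedKer_of_fitting hgiR t αC hlow hcok
    have hT : Algebra.algebraMapSubmonoid C t.primeCompl ≤ Q.primeCompl := by
      rintro _ ⟨x, hx, rfl⟩ hxQ
      exact hx ((Ideal.mem_of_liesOver Q t x).2 hxQ)
    constructor
    · exact RG6.flatAt_coker Q αC _ hT hK
    · exact RG6.flatAt_of_injective Q αC (injective_map_of_killedKer (hK.mono hT))
  exact ⟨fun h t Q _ _ _ hgt hQ => h t Q hgt fun h' => hQ ((key t Q hgt).1 h'),
    fun h t Q _ _ _ hgt hQ => h t Q hgt fun h' => hQ ((key t Q hgt).2 h')⟩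

end Layer

section Devissage

variable {A B : Type u} [CommRing A] [CommRing B] [Algebra A B] [Algebra.FinitePresentation A B]
  {N : Type u} [AddCommGroup N] [Module B N] [Module A N] [IsScalarTower A B N] [Module.FinitePresentation B N]
  {s : Ideal A} [s.IsPrime]

/-- The conclusion for a given threshold. -/
def Rep (A B : Type u) [CommRing A] [CommRing B] [Algebra A B] (N : Type u) [AddCommGroup N] [Module B N]
    (s : Ideal A) (d : ℕ) : Prop :=
  ∃ g : A, g ∉ s ∧ ∃ (Z : Scheme.{u}) (i : Z ⟶ Spec (CommRingCat.of A)), Mono i ∧ LocallyOfFinitePresentation i ∧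
    QuasiCompact i ∧ ∀ (R : Type u) [CommRing R] [Algebra A R], IsUnit (algebraMap A R g) →
      (Phi A B N R g d ↔ ∃ k : Spec (CommRingCat.of R) ⟶ Z, k ≫ i = Spec.map (CommRingCat.ofHom (algebraMap A R)))

theorem rep_of_true {d : ℕ} {g : A} (hg : g ∉ s)
    (h : ∀ (R : Type u) [CommRing R] [Algebra A R], Phi A B N R g d) : Rep A B N s d :=
  ⟨g, hg, _, 𝟙 _, inferInstance, inferInstance, inferInstance,
    fun R _ _ _ => ⟨fun _ => ⟨_, Category.comp_id _⟩, fun _ => h R⟩⟩

theorem rep_aux (D : CompleteDevissage A B N s)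
    (d : ℕ) (hflat : FlatInDimGE (d + 1) A B N) :
    ∀ (j i : ℕ) (g : A), i + j + 1 = D.n → g ∉ s → Algebra.FinitePresentation A (D.A i) →
      Module.FinitePresentation (D.A i) (D.M i) →
      (∀ g', g ∣ g' → ∀ (R : Type u) [CommRing R] [Algebra A R] (n : ℕ),
        Phi A B N R g' n ↔ Phi A (D.B i) (D.M i) R g' n) → Rep A B N s d := by
  intro j
  induction j with
  | zero => ?_
  | succ j ih => ?_
  all_goals intro i g₀ hij hg₀ hfpA hfpM hinv₀
  all_goals
    have hi : i < D.n := by omega
    haveI := D.smooth i hi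
    haveI := D.finiteBA i hi
    haveI : Algebra.FinitePresentation (D.B i) (D.A i) := RGProj13.fp_relative A (D.B i) (D.A i)
    haveI : Module.FinitePresentation (D.B i) (D.M i) := RGProj13.finitePresentation_down (A := D.A i)
    have hgi := RGProj13.hgi_B D hi
    obtain ⟨g₁, hg₁, e, he₁⟩ := exists_genDim hgi s
    obtain ⟨g, hgdef⟩ : ∃ g, g = g₀ * g₁ := ⟨_, rfl⟩
    have hg : g ∉ s := fun h => (‹s.IsPrime›.mem_or_mem (hgdef ▸ h)).elim hg₀ hg₁
    have he : GenDim A (D.B i) g e := genDim_of_dvd he₁ ⟨g₀, by rw [hgdef, mul_comm]⟩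
    have hinv : ∀ g', g ∣ g' → ∀ (R : Type u) [CommRing R] [Algebra A R] (n : ℕ),
        Phi A B N R g' n ↔ Phi A (D.B i) (D.M i) R g' n := fun g' h => hinv₀ g' (dvd_trans ⟨g₁, hgdef⟩ h)
    rcases lt_trichotomy e d with hed | rfl | hed
    · refine rep_of_true hg fun R _ _ => (hinv g dvd_rfl R d).2 ?_
      exact fdg_of_lt (RGProj13.geomIntegralFibres_baseChange R hgi) (genDim_baseChange he R) hed _
    · obtain ⟨Z, z, hm, hl, hq, hZ⟩ := exists_rep_top hgi (M := D.M i) he
      exact ⟨g, hg, Z, z, hm, hl, hq, fun R _ _ hu => (hinv g dvd_rfl R e).trans (hZ R hu)⟩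
  all_goals
    have h0 : FDg (algebraMap A A g) (d + 1) (D.B i) (D.M i) := by
      rw [phi_abstract A (D.B i) (LinearMap.id : D.M i →ₗ[D.B i] D.M i) (IsBaseChange.ofEquiv (LinearEquiv.refl _ _)),
        ← hinv g dvd_rfl A (d + 1), ← phi_abstract A B (LinearMap.id : N →ₗ[B] N) (IsBaseChange.ofEquiv (LinearEquiv.refl _ _))]
      exact fun t Q _ _ _ _ hQ => hflat t Q hQ
    have hfl := flatAt_generic_of_fdg hgi he hed (by rw [Algebra.algebraMap_self] at h0; exact h0) s hg
    obtain ⟨a, ha, hstep⟩ := exists_step hgi (D.α i) s (D.fibreIso i hi) hfl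
    have hga : g * a ∉ s := fun hm => (‹s.IsPrime›.mem_or_mem hm).elim hg ha
  · refine rep_of_true hga fun R _ _ => (hinv _ (dvd_mul_right g a) R d).2 ((hstep _ (dvd_mul_left a g) R d).2 ?_)
    have hsur : Function.Surjective (D.α i) := by
      have h0 := D.cokerLast
      rwa [show D.n - 1 = i by omega] at h0
    haveI : Subsingleton (D.M i ⧸ LinearMap.range (D.α i)) := by
      rw [LinearMap.range_eq_top.2 hsur]; infer_instance
    haveI : Subsingleton ((R ⊗[A] D.B i) ⊗[D.B i] (D.M i ⧸ LinearMap.range (D.α i))) := by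
      refine ⟨fun x y => ?_⟩
      suffices h0 : ∀ z : (R ⊗[A] D.B i) ⊗[D.B i] (D.M i ⧸ LinearMap.range (D.α i)), z = 0 by rw [h0 x, h0 y]
      intro z
      induction z using TensorProduct.induction_on with
      | zero => rfl
      | tmul x y => rw [Subsingleton.elim y 0, TensorProduct.tmul_zero]
      | add x y hx hy => rw [hx, hy, add_zero]
    exact fdg_of_subsingleton _ _ _
  · have h1 : i + 1 < D.n := by omega
    haveI := D.fpBA' i h1
    haveI : Module.Finite (D.B i) (D.A (i + 1)) :=
      Module.Finite.of_surjective (Algebra.linearMap (D.B i) (D.A (i + 1))) (D.surjBA' i h1)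
    haveI := D.finiteBA (i + 1) h1
    haveI := D.finiteM (i + 1) h1
    haveI : Module.FinitePresentation (D.B i) (D.M i ⧸ LinearMap.range (D.α i)) :=
      Module.finitePresentation_of_surjective (LinearMap.range (D.α i)).mkQ (Submodule.mkQ_surjective _)
        (by rw [Submodule.ker_mkQ, LinearMap.range_eq_map]; exact (Module.Finite.fg_top).map (D.α i))
    haveI : Module.FinitePresentation (D.B i) (D.M (i + 1)) := Module.FinitePresentation.of_equiv (D.isoCoker i h1)
    refine ih (i + 1) (g * a) (by omega) hga (Algebra.FinitePresentation.trans A (D.B i) (D.A (i + 1)))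
      (RGProj13.finitePresentation_up (B := D.B i)) fun g' hg' R _ _ n => ?_
    rw [hinv g' ((dvd_mul_right g a).trans hg') R n, hstep g' ((dvd_mul_left a g).trans hg') R n,
      phi_congr (D.isoCoker i h1) R g' n, phi_finite (B := D.B i) (B₂ := D.A (i + 1)) R g' n,
      ← phi_finite (B := D.B (i + 1)) (B₂ := D.A (i + 1)) R g' n]

theorem representable_near_prime (D : CompleteDevissage A B N s) (d : ℕ) (hflat : FlatInDimGE (d + 1) A B N) :
    ∃ g : A, g ∉ s ∧ ∃ (Z : Scheme.{u}) (i : Z ⟶ Spec (CommRingCat.of A)),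
      Mono i ∧ LocallyOfFinitePresentation i ∧ QuasiCompact i ∧ QuasiSeparated i ∧
      ∀ (A' B' N' : Type u) [CommRing A'] [CommRing B'] [Algebra A A'] [Algebra B B'] [Algebra A' B'] [Algebra A B']
        [IsScalarTower A B B'] [IsScalarTower A A' B'] [Algebra.IsPushout A B A' B']
        [AddCommGroup N'] [Module B' N'] [Module B N'] [IsScalarTower B B' N'] [Module A' N'] [IsScalarTower A' B' N']
        (φ : N →ₗ[B] N'), IsBaseChange B' φ → IsUnit (algebraMap A A' g) →
        (FlatInDimGE d A' B' N' ↔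
          ∃ k : Spec (CommRingCat.of A') ⟶ Z, k ≫ i = Spec.map (CommRingCat.ofHom (algebraMap A A'))) := by
  haveI := D.fpSA
  haveI := D.finiteBA 0 D.pos
  haveI := D.finiteM 0 D.pos
  haveI : Module.Finite B (D.A 0) := Module.Finite.of_surjective (Algebra.linearMap B (D.A 0)) D.surjSA
  haveI : Module.FinitePresentation B (D.M 0) := Module.FinitePresentation.of_equiv D.isoN
  obtain ⟨g, hg, Z, z, hm, hl, hq, hZ⟩ := rep_aux D d hflat (D.n - 1) 0 1 (by have := D.pos; omega)
    (fun h => ‹s.IsPrime›.ne_top ((Ideal.eq_top_iff_one _).2 h)) (Algebra.FinitePresentation.trans A B (D.A 0))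
    (RGProj13.finitePresentation_up (B := B)) fun g' _ R _ _ n => by
      rw [phi_congr D.isoN R g' n, phi_finite (B := B) (B₂ := D.A 0) R g' n,
        ← phi_finite (B := D.B 0) (B₂ := D.A 0) R g' n]
  haveI := hm
  refine ⟨g, hg, Z, z, hm, hl, hq, inferInstance, fun A' B' N' _ _ _ _ _ _ _ _ _ _ _ _ _ _ _ φ hφ hu => ?_⟩
  haveI : Algebra.IsPushout A A' B B' := Algebra.IsPushout.symm ‹Algebra.IsPushout A B A' B'›
  rw [← fdg_iff_of_isUnit (algebraMap A A' g) d N' hu, phi_abstract A' B' φ hφ g d]
  exact hZ A' hu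

end Devissage

end GrothLib.DevFlatRep8
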