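import Groth.Prelude.Def_FlatCA
import Groth.Agent.Lib.RGProj13.Devissage
import Groth.Agent.Lib.OrdQuad12.Count

/-!
# Flatness in dimensions `≥ n` away from an element of the base, and finite maps
-/

set_option autoImplicit false
set_option linter.style.haveILetI false
set_option backward.isDefEq.respectTransparency false
set_option maxHeartbeats 400000

universe u

open TensorProduct FlatCA

namespace GrothLib.DevFlatRep8

/-- Flat in dimensions `≥ n` over the points of the base outside `g`. -/
def FDg {R : Type u} [CommRing R] (g : R) (n : ℕ) (C : Type u) [CommRing C] [Algebra R C] (G : Type u)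
    [AddCommGroup G] [Module C G] [Module R G] [IsScalarTower R C G] : Prop :=
  ∀ (t : Ideal R) (Q : Ideal C) [t.IsPrime] [Q.IsPrime] [h : Q.LiesOver t], g ∉ t → ¬ FlatAt R Q G →
    letI : Algebra t.ResidueField Q.ResidueField :=
      (Ideal.ResidueField.mapₐ t Q (Algebra.ofId R C) h.over).toRingHom.toAlgebra
    Algebra.trdeg t.ResidueField Q.ResidueField < (n : Cardinal.{u})

variable {R : Type u} [CommRing R] (g : R) (n : ℕ)

theorem fdg_iff_of_isUnit {C : Type u} [CommRing C] [Algebra R C] (G : Type u) [AddCommGroup G] [Module C G]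
    [Module R G] [IsScalarTower R C G] (hg : IsUnit g) : FDg g n C G ↔ FlatInDimGE n R C G :=
  ⟨fun h t Q _ _ _ hQ => h t Q (fun hgt => (Ideal.IsPrime.ne_top ‹t.IsPrime›) (Ideal.eq_top_of_isUnit_mem _ hgt hg)) hQ,
    fun h t Q _ _ _ _ hQ => h t Q hQ⟩

theorem fdg_congr {C : Type u} [CommRing C] [Algebra R C] {G G' : Type u} [AddCommGroup G] [Module C G]
    [Module R G] [IsScalarTower R C G] [AddCommGroup G'] [Module C G'] [Module R G'] [IsScalarTower R C G']
    (e : G ≃ₗ[C] G') : FDg g n C G ↔ FDg g n C G' :=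
  ⟨fun h t Q _ _ _ hg hQ => h t Q hg fun h' => hQ (RGProj13.flatAt_congr e Q h'),
    fun h t Q _ _ _ hg hQ => h t Q hg fun h' => hQ (RGProj13.flatAt_congr e.symm Q h')⟩

theorem fdg_of_subsingleton {C : Type u} [CommRing C] [Algebra R C] (G : Type u) [AddCommGroup G] [Module C G]
    [Module R G] [IsScalarTower R C G] [Subsingleton G] : FDg g n C G := fun t Q _ _ _ _ hQ => by
  refine absurd ?_ hQ
  show Module.Flat R (LocalizedModule Q.primeCompl G)
  haveI : Subsingleton (LocalizedModule Q.primeCompl G) := ⟨fun a b => by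
    induction a using LocalizedModule.induction_on with
    | _ m s =>
      induction b using LocalizedModule.induction_on with
      | _ m' s' => exact LocalizedModule.mk_eq.2 ⟨1, Subsingleton.elim _ _⟩⟩
  infer_instance

/-- Residue transcendence degrees do not change along a finite map. -/
theorem trdeg_residue_finite {C C' : Type u} [CommRing C] [CommRing C'] [Algebra R C] [Algebra C C'] [Algebra R C']
    [IsScalarTower R C C'] [Module.Finite C C'] (t : Ideal R) [t.IsPrime] (Q : Ideal C) [Q.IsPrime]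
    (Q' : Ideal C') [Q'.IsPrime] [hQ : Q.LiesOver t] [hQ' : Q'.LiesOver t] [hQQ' : Q'.LiesOver Q] :
    letI : Algebra t.ResidueField Q.ResidueField :=
      (Ideal.ResidueField.mapₐ t Q (Algebra.ofId R C) hQ.over).toRingHom.toAlgebra
    letI : Algebra t.ResidueField Q'.ResidueField :=
      (Ideal.ResidueField.mapₐ t Q' (Algebra.ofId R C') hQ'.over).toRingHom.toAlgebra
    Algebra.trdeg t.ResidueField Q.ResidueField = Algebra.trdeg t.ResidueField Q'.ResidueField := by
  letI a₁ : Algebra t.ResidueField Q.ResidueField :=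
    (Ideal.ResidueField.mapₐ t Q (Algebra.ofId R C) hQ.over).toRingHom.toAlgebra
  letI a₂ : Algebra t.ResidueField Q'.ResidueField :=
    (Ideal.ResidueField.mapₐ t Q' (Algebra.ofId R C') hQ'.over).toRingHom.toAlgebra
  let m : Q.ResidueField →+* Q'.ResidueField :=
    (Ideal.ResidueField.mapₐ Q Q' (Algebra.ofId C C') hQQ'.over).toRingHom
  letI a₃ : Algebra Q.ResidueField Q'.ResidueField := m.toAlgebra
  haveI : IsScalarTower t.ResidueField Q.ResidueField Q'.ResidueField := IsScalarTower.of_algebraMap_eq' (by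
    apply Ideal.ResidueField.ringHom_ext
    ext x
    simp only [RingHom.comp_apply, RingHom.algebraMap_toAlgebra, m, AlgHom.toRingHom_eq_coe, RingHom.coe_coe, AlgHom.commutes]
    rw [IsScalarTower.algebraMap_apply R C Q.ResidueField, AlgHom.commutes, ← IsScalarTower.algebraMap_apply,
      IsScalarTower.algebraMap_apply R C' Q'.ResidueField, IsScalarTower.algebraMap_apply R C C',
      ← IsScalarTower.algebraMap_apply C C' Q'.ResidueField])
  haveI : IsScalarTower C Q.ResidueField Q'.ResidueField := IsScalarTower.of_algebraMap_eq fun x =>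
    ((Ideal.ResidueField.mapₐ Q Q' (Algebra.ofId C C') hQQ'.over).commutes x).symm
  haveI : Algebra.IsAlgebraic Q.ResidueField Q'.ResidueField := by
    refine ⟨fun z => ?_⟩
    obtain ⟨x, w, -, rfl⟩ := IsFractionRing.div_surjective (A := C' ⧸ Q') z
    obtain ⟨x, rfl⟩ := Ideal.Quotient.mk_surjective x
    obtain ⟨w, rfl⟩ := Ideal.Quotient.mk_surjective w
    have key : ∀ a : C', IsIntegral Q.ResidueField (algebraMap C' Q'.ResidueField a) := fun a =>
      ((Algebra.IsIntegral.isIntegral (R := C) a).map (IsScalarTower.toAlgHom C C' Q'.ResidueField)).tower_top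
    exact ((key x).isAlgebraic.mul (key w).isAlgebraic.inv)
  have h2 := trdeg_add_eq t.ResidueField Q.ResidueField (A := Q'.ResidueField)
  rw [trdeg_eq_zero (R := Q.ResidueField) (A := Q'.ResidueField), add_zero] at h2
  exact h2

/-- Flatness in dimensions `≥ n` read on a finite algebra. -/
theorem fdg_finite {C C' : Type u} [CommRing C] [CommRing C'] [Algebra R C] [Algebra C C'] [Algebra R C']
    [IsScalarTower R C C'] [Module.Finite C C'] (G : Type u) [AddCommGroup G] [Module C' G] [Module C G]
    [IsScalarTower C C' G] [Module R G] [IsScalarTower R C G] [IsScalarTower R C' G] :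
    FDg g n C G ↔ FDg g n C' G := by
  constructor
  · intro h t Q' _ _ hQ' hg hnf
    let Q := Q'.comap (algebraMap C C')
    haveI : Q'.LiesOver Q := ⟨rfl⟩
    haveI : Q.LiesOver t := ⟨by
      show t = (Q'.comap (algebraMap C C')).comap (algebraMap R C)
      rw [Ideal.comap_comap, ← IsScalarTower.algebraMap_eq]; exact hQ'.over⟩
    rw [← trdeg_residue_finite t Q Q']
    exact h t Q hg fun hf => hnf ((RG6.Dev.flatAt_of_forall (A := R) (B := C) (C := C') G Q).1 hf Q' le_rfl)
  · intro h t Q _ _ hQ hg hnf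
    rw [RG6.Dev.flatAt_of_forall (A := R) (B := C) (C := C') G Q] at hnf
    push Not at hnf
    obtain ⟨Q₀, hQ₀, hle, hnf⟩ := hnf
    obtain ⟨Q', hge, hQ', hc⟩ := Ideal.exists_ideal_over_prime_of_isIntegral Q Q₀ hle
    haveI : Q'.LiesOver Q := ⟨hc.symm⟩
    haveI : Q'.LiesOver t := Ideal.LiesOver.trans Q' Q t
    rw [trdeg_residue_finite t Q Q']
    refine h t Q' hg fun hf => hnf ((RG6.Dev.flatAt_of_forall (A := R) (B := C') (C := C') G Q').1 hf Q₀ ?_)
    rw [Algebra.algebraMap_self, Ideal.comap_id]; exact hge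

/-- Flatness in dimensions `≥ n` of a base change, read on a finite algebra. -/
theorem fdg_transfer {A B B₂ : Type u} [CommRing A] [CommRing B] [CommRing B₂] [Algebra A B] [Algebra B B₂]
    [Algebra A B₂] [IsScalarTower A B B₂] [Module.Finite B B₂] [Algebra A R]
    (C : Type u) [CommRing C] [Algebra A C] [Algebra R C] [Algebra B C] [IsScalarTower A R C] [IsScalarTower A B C]
    [Algebra.IsPushout A R B C]
    (C₂ : Type u) [CommRing C₂] [Algebra A C₂] [Algebra R C₂] [Algebra B₂ C₂] [IsScalarTower A R C₂]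
    [IsScalarTower A B₂ C₂] [Algebra.IsPushout A R B₂ C₂]
    (M : Type u) [AddCommGroup M] [Module B₂ M] [Module B M] [IsScalarTower B B₂ M]
    {G : Type u} [AddCommGroup G] [Module C G] [Module R G] [IsScalarTower R C G] [Module B G] [IsScalarTower B C G]
    (φ : M →ₗ[B] G) (hφ : IsBaseChange C φ)
    {G₂ : Type u} [AddCommGroup G₂] [Module C₂ G₂] [Module R G₂] [IsScalarTower R C₂ G₂] [Module B₂ G₂]
    [IsScalarTower B₂ C₂ G₂] (φ₂ : M →ₗ[B₂] G₂) (hφ₂ : IsBaseChange C₂ φ₂) :
    FDg g n C G ↔ FDg g n C₂ G₂ := by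
  let θ : C →ₐ[A] C₂ := Algebra.pushoutDesc C ((Algebra.ofId R C₂).restrictScalars A)
    ((IsScalarTower.toAlgHom A B₂ C₂).comp (IsScalarTower.toAlgHom A B B₂)) fun _ _ => mul_comm _ _
  letI : Algebra C C₂ := θ.toRingHom.toAlgebra
  haveI : IsScalarTower R C C₂ := IsScalarTower.of_algebraMap_eq fun r =>
    (Algebra.pushoutDesc_left C ((Algebra.ofId R C₂).restrictScalars A) _ (fun _ _ => mul_comm _ _) r).symm
  letI : Algebra B C₂ := ((algebraMap B₂ C₂).comp (algebraMap B B₂)).toAlgebra
  haveI : IsScalarTower B B₂ C₂ := IsScalarTower.of_algebraMap_eq fun _ => rfl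
  haveI : IsScalarTower B C C₂ := IsScalarTower.of_algebraMap_eq fun b =>
    (Algebra.pushoutDesc_right C ((Algebra.ofId R C₂).restrictScalars A)
      ((IsScalarTower.toAlgHom A B₂ C₂).comp (IsScalarTower.toAlgHom A B B₂)) (fun _ _ => mul_comm _ _) b).symm
  haveI : IsScalarTower A B C₂ := IsScalarTower.of_algebraMap_eq fun a => by
    show _ = algebraMap B₂ C₂ (algebraMap B B₂ (algebraMap A B a))
    rw [← IsScalarTower.algebraMap_apply A B B₂, ← IsScalarTower.algebraMap_apply A B₂ C₂]
  haveI : IsScalarTower A C C₂ := IsScalarTower.of_algebraMap_eq fun a => by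
    rw [IsScalarTower.algebraMap_apply A R C₂, IsScalarTower.algebraMap_apply R C C₂, ← IsScalarTower.algebraMap_apply A R C]
  haveI : Algebra.IsPushout A B R C := Algebra.IsPushout.symm ‹Algebra.IsPushout A R B C›
  haveI hpo : Algebra.IsPushout B C B₂ C₂ := Algebra.IsPushout.symm
    ((Algebra.IsPushout.comp_iff (R := A) (S := B) (R' := R) (S' := C) (T := B₂) (T' := C₂)).1
      (Algebra.IsPushout.symm ‹Algebra.IsPushout A R B₂ C₂›))
  haveI : Module.Finite C C₂ := Module.Finite.equiv (Algebra.IsPushout.out (R := B) (S := C) (R' := B₂) (S' := C₂)).equiv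
  letI : Module C (C₂ ⊗[B₂] M) := inferInstance
  rw [fdg_congr g n (hφ.equiv.symm ≪≫ₗ (Algebra.IsPushout.cancelBaseChange B C B₂ C₂ M).symm),
    fdg_finite g n (C := C) (C' := C₂), fdg_congr g n hφ₂.equiv]

end GrothLib.DevFlatRep8
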