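import Mathlib

/-!
# The monomorphism on which finitely many finitely generated ideals become idempotent
-/

set_option autoImplicit false
set_option linter.style.haveILetI false
set_option backward.isDefEq.respectTransparency false
set_option maxHeartbeats 400000

universe u

open CategoryTheory CategoryTheory.Limits AlgebraicGeometry

namespace GrothLib.DevFlatRep8

theorem mono_coprodDesc {U V X : Scheme.{u}} (f : U ⟶ X) (g : V ⟶ X) [Mono f] [Mono g]
    (hd : Disjoint (Set.range f) (Set.range g)) : Mono (coprod.desc f g) := by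
  refine ⟨fun {T} a b hab => ?_⟩
  let i₁ : U ⟶ U ⨿ V := coprod.inl
  let i₂ : V ⟶ U ⨿ V := coprod.inr
  have hc := isCompl_range_inl_inr U V
  have key : ∀ (W : Scheme.{u}) (i : W ⟶ U ⨿ V) [IsOpenImmersion i] (S : Set X),
      (∀ z, z ∈ Set.range i ↔ coprod.desc f g z ∈ S) → ∀ z : T, a z ∈ Set.range i ↔ b z ∈ Set.range i := by
    intro W i _ S hS z
    rw [hS, hS, ← Scheme.Hom.comp_apply, ← Scheme.Hom.comp_apply, hab]
  have hl : ∀ z, z ∈ Set.range i₁ ↔ coprod.desc f g z ∈ Set.range f := fun z => by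
    constructor
    · rintro ⟨w, rfl⟩
      exact ⟨w, by rw [← Scheme.Hom.comp_apply, coprod.inl_desc]⟩
    · intro h
      rcases (hc.sup_eq_top.ge (Set.mem_univ z) : z ∈ Set.range i₁ ∪ Set.range i₂) with h' | ⟨w, rfl⟩
      · exact h'
      · rw [← Scheme.Hom.comp_apply, coprod.inr_desc] at h
        exact (Set.disjoint_left.1 hd h ⟨w, rfl⟩).elim
  have hr : ∀ z, z ∈ Set.range i₂ ↔ coprod.desc f g z ∈ Set.range g := fun z => by
    constructor
    · rintro ⟨w, rfl⟩
      exact ⟨w, by rw [← Scheme.Hom.comp_apply, coprod.inr_desc]⟩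
    · intro h
      rcases (hc.sup_eq_top.ge (Set.mem_univ z) : z ∈ Set.range i₁ ∪ Set.range i₂) with ⟨w, rfl⟩ | h'
      · rw [← Scheme.Hom.comp_apply, coprod.inl_desc] at h
        exact (Set.disjoint_left.1 hd ⟨w, rfl⟩ h).elim
      · exact h'
  have restrict : ∀ (W : Scheme.{u}) (i : W ⟶ U ⨿ V) [IsOpenImmersion i] [Mono (i ≫ coprod.desc f g)],
      (∀ z : T, a z ∈ Set.range i ↔ b z ∈ Set.range i) →
      (a ⁻¹ᵁ i.opensRange).ι ≫ a = (a ⁻¹ᵁ i.opensRange).ι ≫ b := by
    intro W i _ _ h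
    let O := a ⁻¹ᵁ i.opensRange
    have ha : Set.range (O.ι ≫ a) ⊆ Set.range i := by
      rintro _ ⟨z, rfl⟩; exact z.2
    have hb : Set.range (O.ι ≫ b) ⊆ Set.range i := by
      rintro _ ⟨z, rfl⟩; exact (h _).1 z.2
    have : IsOpenImmersion.lift i _ ha = IsOpenImmersion.lift i _ hb := by
      rw [← cancel_mono (i ≫ coprod.desc f g), IsOpenImmersion.lift_fac_assoc, IsOpenImmersion.lift_fac_assoc,
        Category.assoc, Category.assoc, hab]
    rw [← IsOpenImmersion.lift_fac i _ ha, this, IsOpenImmersion.lift_fac]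
  haveI : Mono (i₁ ≫ coprod.desc f g) := by rw [coprod.inl_desc]; infer_instance
  haveI : Mono (i₂ ≫ coprod.desc f g) := by rw [coprod.inr_desc]; infer_instance
  have h₁ := restrict U i₁ (key U i₁ _ hl)
  have h₂ := restrict V i₂ (key V i₂ _ hr)
  have hcov : (a ⁻¹ᵁ i₁.opensRange) ⊔ (a ⁻¹ᵁ i₂.opensRange) = ⊤ := by
    refine eq_top_iff.2 fun z _ => ?_
    exact (hc.sup_eq_top.ge (Set.mem_univ (a z)) : a z ∈ Set.range i₁ ∪ Set.range i₂)
  refine Scheme.Cover.hom_ext (T.openCoverOfIsOpenCover (fun b : Bool => cond b (a ⁻¹ᵁ i₁.opensRange) (a ⁻¹ᵁ i₂.opensRange))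
    (by rw [TopologicalSpace.IsOpenCover, iSup_bool_eq]; exact hcov)) _ _ fun j => ?_
  cases j
  · exact h₂
  · exact h₁

theorem idempotent_iff_zero_or_top {R : Type u} [CommRing R] (I : Ideal R) (hI : I.FG) :
    IsIdempotentElem I ↔ ∀ (t : Ideal R) [t.IsPrime], ¬ I ≤ t ∨ ∀ y ∈ I, ∃ a ∉ t, a * y = 0 := by
  constructor
  · intro h t _
    obtain ⟨e, he, rfl⟩ := (Ideal.isIdempotentElem_iff_of_fg I hI).1 h
    by_cases het : e ∈ t
    · refine Or.inr fun y hy => ⟨1 - e, fun h' => ‹t.IsPrime›.ne_top ((Ideal.eq_top_iff_one _).2 ?_), ?_⟩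
      · have := add_mem h' het
        rwa [sub_add_cancel] at this
      · obtain ⟨c, rfl⟩ := Ideal.mem_span_singleton'.1 hy
        rw [mul_comm c e, ← mul_assoc, sub_mul, one_mul, he.eq, sub_self, zero_mul]
    · exact Or.inl fun h' => het (h' (Ideal.mem_span_singleton_self e))
  · intro h
    refine le_antisymm Ideal.mul_le_left fun y hy => ?_
    let K : Ideal R := (I * I).colon {y}
    by_contra hy'
    have hK : K ≠ ⊤ := fun hK => hy' (by
      have := (Submodule.mem_colon_singleton).1 (hK.ge (Submodule.mem_top (x := (1 : R))))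
      simpa using this)
    obtain ⟨t, ht, hKt⟩ := Ideal.exists_le_maximal K hK
    haveI := ht.isPrime
    rcases h t with h1 | h1
    · obtain ⟨a, ha, hat⟩ := SetLike.not_le_iff_exists.1 h1
      exact hat (hKt (Submodule.mem_colon_singleton.2 (Ideal.mul_mem_mul ha hy)))
    · obtain ⟨a, hat, ha⟩ := h1 y hy
      exact hat (hKt (Submodule.mem_colon_singleton.2 (by rw [smul_eq_mul, ha]; exact zero_mem _)))

theorem exists_rep_idempotent {A : Type u} [CommRing A] (I : Ideal A) (hI : I.FG) :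
    ∃ (Z : Scheme.{u}) (i : Z ⟶ Spec (.of A)), Mono i ∧ LocallyOfFinitePresentation i ∧ QuasiCompact i ∧
      ∀ (A' : Type u) [CommRing A'] [Algebra A A'], IsIdempotentElem (I.map (algebraMap A A')) ↔
        ∃ k : Spec (.of A') ⟶ Z, k ≫ i = Spec.map (CommRingCat.ofHom (algebraMap A A')) := by
  classical
  let c : Spec (.of (A ⧸ I)) ⟶ Spec (.of A) := Spec.map (CommRingCat.ofHom (Ideal.Quotient.mk I))
  haveI hc : IsClosedImmersion c := IsClosedImmersion.spec_of_surjective _ Ideal.Quotient.mk_surjective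
  let U : (Spec (.of A)).Opens := ⟨(PrimeSpectrum.zeroLocus (I : Set A))ᶜ, (PrimeSpectrum.isClosed_zeroLocus _).isOpen_compl⟩
  have hrange : Set.range c = PrimeSpectrum.zeroLocus (I : Set A) := by
    show Set.range (PrimeSpectrum.comap (Ideal.Quotient.mk I)) = _
    rw [range_comap_of_surjective _ _ Ideal.Quotient.mk_surjective, Ideal.mk_ker]
  haveI : LocallyOfFinitePresentation c := by
    rw [HasRingHomProperty.Spec_iff (P := @LocallyOfFinitePresentation)]
    exact RingHom.FinitePresentation.of_surjective _ Ideal.Quotient.mk_surjective (by rw [CommRingCat.hom_ofHom, Ideal.mk_ker]; exact hI)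
  haveI : QuasiCompact U.ι := by
    refine (quasiCompact_iff_compactSpace U.ι).2 ?_
    refine isCompact_iff_compactSpace.1 ?_
    obtain ⟨s, hs⟩ := hI
    have h : (PrimeSpectrum.zeroLocus (I : Set A))ᶜ = ⋃ x ∈ s, (PrimeSpectrum.basicOpen x : Set (PrimeSpectrum A)) := by
      rw [← hs, PrimeSpectrum.zeroLocus_span]
      ext p
      simp [PrimeSpectrum.mem_zeroLocus, Set.not_subset]
    show IsCompact (PrimeSpectrum.zeroLocus (I : Set A))ᶜ
    rw [h]
    exact s.isCompact_biUnion fun x _ => PrimeSpectrum.isCompact_basicOpen x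
  let i : Spec (.of (A ⧸ I)) ⨿ U.toScheme ⟶ Spec (.of A) := coprod.desc c U.ι
  have hmono : Mono i := mono_coprodDesc c U.ι (by
    rw [hrange, Scheme.Opens.range_ι]; exact disjoint_compl_right)
  refine ⟨_, i, hmono, ?_, ?_, fun A' _ _ => ?_⟩
  · refine IsZariskiLocalAtSource.of_openCover (P := @LocallyOfFinitePresentation) (coprodOpenCover.{u, u} _ _) fun j => ?_
    rcases j with ⟨⟩ | ⟨⟩
    · show LocallyOfFinitePresentation (coprod.inl ≫ coprod.desc c U.ι)
      rw [coprod.inl_desc]; infer_instance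
    · show LocallyOfFinitePresentation (coprod.inr ≫ coprod.desc c U.ι)
      rw [coprod.inr_desc]; infer_instance
  · refine ⟨fun W hW hWc => ?_⟩
    have h : i ⁻¹' W = (coprod.inl : _ ⟶ Spec (.of (A ⧸ I)) ⨿ U.toScheme) '' (c ⁻¹' W) ∪
        (coprod.inr : _ ⟶ Spec (.of (A ⧸ I)) ⨿ U.toScheme) '' (U.ι ⁻¹' W) := by
      ext z
      constructor
      · intro hz
        rcases ((isCompl_range_inl_inr _ _).sup_eq_top.ge (Set.mem_univ z) : z ∈ Set.range _ ∪ Set.range _) with ⟨w, rfl⟩ | ⟨w, rfl⟩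
        · left
          refine ⟨w, ?_, rfl⟩
          rwa [Set.mem_preimage, ← Scheme.Hom.comp_apply, coprod.inl_desc] at hz
        · right
          refine ⟨w, ?_, rfl⟩
          rwa [Set.mem_preimage, ← Scheme.Hom.comp_apply, coprod.inr_desc] at hz
      · rintro (⟨w, hw, rfl⟩ | ⟨w, hw, rfl⟩)
        · rw [Set.mem_preimage, ← Scheme.Hom.comp_apply, coprod.inl_desc]; exact hw
        · rw [Set.mem_preimage, ← Scheme.Hom.comp_apply, coprod.inr_desc]; exact hw
    show IsCompact (i ⁻¹' W)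
    rw [h]
    exact ((QuasiCompact.isCompact_preimage (f := c) W hW hWc).image (Scheme.Hom.continuous _)).union
      ((QuasiCompact.isCompact_preimage (f := U.ι) W hW hWc).image (Scheme.Hom.continuous _))
  · let φ := algebraMap A A'
    let F := Spec.map (CommRingCat.ofHom φ)
    constructor
    · intro h
      obtain ⟨e, he, hIe⟩ := (Ideal.isIdempotentElem_iff_of_fg _ (hI.map φ)).1 h
      let π₁ : A' →+* A' ⧸ Ideal.span {e} := Ideal.Quotient.mk _
      let π₂ : A' →+* A' ⧸ Ideal.span {1 - e} := Ideal.Quotient.mk _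
      let σ : A' ≃+* (A' ⧸ Ideal.span {e}) × (A' ⧸ Ideal.span {1 - e}) := RingEquiv.ofBijective (π₁.prod π₂) (by
        refine ⟨(injective_iff_map_eq_zero _).2 fun x hx => ?_, fun ⟨x, y⟩ => ?_⟩
        · obtain ⟨a, ha⟩ := Ideal.mem_span_singleton'.1 (Ideal.Quotient.eq_zero_iff_mem.1 (congrArg Prod.fst hx))
          obtain ⟨b, hb⟩ := Ideal.mem_span_singleton'.1 (Ideal.Quotient.eq_zero_iff_mem.1 (congrArg Prod.snd hx))
          linear_combination (-(1 - e)) * ha + (-e) * hb + (-(a + b)) * (he.eq : e * e = e)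
        · obtain ⟨x, rfl⟩ := Ideal.Quotient.mk_surjective x
          obtain ⟨y, rfl⟩ := Ideal.Quotient.mk_surjective y
          refine ⟨x * (1 - e) + y * e, Prod.ext ?_ ?_⟩
          · exact Ideal.Quotient.eq.2 (Ideal.mem_span_singleton'.2 ⟨y - x, by ring⟩)
          · exact Ideal.Quotient.eq.2 (Ideal.mem_span_singleton'.2 ⟨x - y, by ring⟩))
      have h1 : I ≤ RingHom.ker (π₁.comp φ) := fun x hx => by
        rw [RingHom.mem_ker]
        exact Ideal.Quotient.eq_zero_iff_mem.2 (hIe.le (Ideal.mem_map_of_mem φ hx))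
      let k₁ : Spec (.of (A' ⧸ Ideal.span {e})) ⟶ Spec (.of (A ⧸ I)) :=
        Spec.map (CommRingCat.ofHom (Ideal.Quotient.lift I (π₁.comp φ) fun x hx => h1 hx))
      have hk₁ : k₁ ≫ c = Spec.map (CommRingCat.ofHom π₁) ≫ F := by
        rw [← Spec.map_comp, ← Spec.map_comp]; rfl
      have hsub : Set.range (Spec.map (CommRingCat.ofHom π₂) ≫ F) ⊆ Set.range U.ι := by
        rw [Scheme.Opens.range_ι]
        rintro _ ⟨p, rfl⟩ hp
        have hle : I.map φ ≤ p.asIdeal.comap π₂ := Ideal.map_le_iff_le_comap.2 fun x hx => hp hx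
        have h2 : π₂ e ∈ p.asIdeal := hle (hIe.ge (Ideal.mem_span_singleton_self e))
        have h3 : π₂ e = 1 := ((Ideal.Quotient.eq).2 (Ideal.mem_span_singleton'.2 ⟨1, by ring⟩)).symm.trans (map_one π₂)
        rw [h3] at h2
        exact p.2.ne_top ((Ideal.eq_top_iff_one _).2 h2)
      let k₂ := IsOpenImmersion.lift U.ι _ hsub
      refine ⟨Spec.map (CommRingCat.ofHom σ.symm.toRingHom) ≫ inv (coprodSpec _ _) ≫ coprod.map k₁ k₂, ?_⟩
      have h4 : coprod.map k₁ k₂ ≫ i = coprodSpec _ _ ≫ Spec.map (CommRingCat.ofHom σ.toRingHom) ≫ F := by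
        ext <;> simp only [coprod.inl_map_assoc, coprod.inr_map_assoc, i, coprod.inl_desc, coprod.inr_desc, coprodSpec_inl_assoc, coprodSpec_inr_assoc]
        · rw [hk₁, ← Spec.map_comp_assoc]; rfl
        · rw [IsOpenImmersion.lift_fac, ← Spec.map_comp_assoc]; rfl
      rw [Category.assoc, Category.assoc, h4, IsIso.inv_hom_id_assoc, ← Spec.map_comp_assoc]
      have h5 : CommRingCat.ofHom σ.toRingHom ≫ CommRingCat.ofHom σ.symm.toRingHom = 𝟙 (CommRingCat.of A') := by
        ext x; exact σ.symm_apply_apply x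
      rw [h5, Spec.map_id, Category.id_comp]
    · rintro ⟨k, hk⟩
      refine (idempotent_iff_zero_or_top _ (hI.map φ)).2 fun t _ => ?_
      let L := Localization.AtPrime t
      let loc : Spec (.of L) ⟶ Spec (.of A') := Spec.map (CommRingCat.ofHom (algebraMap A' L))
      let z : Spec (.of L) := IsLocalRing.closedPoint L
      have hspec : ∀ w : Spec (.of L), w ⤳ z := fun w => IsLocalRing.specializes_closedPoint w
      rcases ((isCompl_range_inl_inr _ _).sup_eq_top.ge (Set.mem_univ ((loc ≫ k) z)) :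
          (loc ≫ k) z ∈ Set.range _ ∪ Set.range _) with hz | hz
      · right
        have hsub : Set.range (loc ≫ k) ⊆ Set.range (coprod.inl : _ ⟶ Spec (.of (A ⧸ I)) ⨿ U.toScheme) := by
          rintro _ ⟨w, rfl⟩
          exact ((hspec w).map (Scheme.Hom.continuous _)).mem_open (coprod.inl : _ ⟶ Spec (.of (A ⧸ I)) ⨿ U.toScheme).isOpenEmbedding.isOpen_range hz
        let l := IsOpenImmersion.lift (coprod.inl : _ ⟶ Spec (.of (A ⧸ I)) ⨿ U.toScheme) _ hsub
        have hl : l ≫ c = Spec.map (CommRingCat.ofHom ((algebraMap A' L).comp φ)) := by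
          rw [show c = coprod.inl ≫ i from (coprod.inl_desc _ _).symm, IsOpenImmersion.lift_fac_assoc, Category.assoc, hk,
            ← Spec.map_comp]
          rfl
        intro y hy
        have h0 : I.map φ ≤ RingHom.ker (algebraMap A' L) := by
          refine Ideal.map_le_iff_le_comap.2 fun x hx => ?_
          have hl' : CommRingCat.ofHom (Ideal.Quotient.mk I) ≫ Spec.preimage l =
              CommRingCat.ofHom ((algebraMap A' L).comp φ) :=
            Spec.map_injective (by rw [Spec.map_comp, Spec.map_preimage]; exact hl)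
          have := congrArg (fun m => m.hom x) hl'
          simp only [CommRingCat.hom_comp, CommRingCat.hom_ofHom, RingHom.comp_apply,
            Ideal.Quotient.eq_zero_iff_mem.2 hx, map_zero] at this
          exact this.symm
        obtain ⟨a, ha⟩ := (IsLocalization.map_eq_zero_iff t.primeCompl L y).1 (h0 hy)
        exact ⟨a, a.2, ha⟩
      · left
        intro hle
        obtain ⟨w, hw⟩ := hz
        have h1 : U.ι w = F (loc z) := by
          rw [show U.ι w = i ((coprod.inr : _ ⟶ Spec (.of (A ⧸ I)) ⨿ U.toScheme) w) from by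
            rw [← Scheme.Hom.comp_apply]; exact congr(($((coprod.inr_desc c U.ι).symm)) w), hw, ← Scheme.Hom.comp_apply,
            Category.assoc, hk]
          rfl
        have h2 : U.ι w ∈ U := w.2
        rw [h1] at h2
        refine h2 fun x hx => ?_
        show algebraMap A' L (φ x) ∈ IsLocalRing.maximalIdeal L
        exact (IsLocalization.AtPrime.to_map_mem_maximal_iff L t _).2 (hle (Ideal.mem_map_of_mem φ hx))

/-- The same for finitely many ideals at once. -/
theorem exists_rep_idempotents {A : Type u} [CommRing A] (I : ℕ → Ideal A) (c : ℕ) (hI : ∀ k < c, (I k).FG) :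
    ∃ (Z : Scheme.{u}) (i : Z ⟶ Spec (.of A)), Mono i ∧ LocallyOfFinitePresentation i ∧ QuasiCompact i ∧
      ∀ (A' : Type u) [CommRing A'] [Algebra A A'], (∀ k < c, IsIdempotentElem ((I k).map (algebraMap A A'))) ↔
        ∃ k : Spec (.of A') ⟶ Z, k ≫ i = Spec.map (CommRingCat.ofHom (algebraMap A A')) := by
  induction c with
  | zero => exact ⟨_, 𝟙 _, inferInstance, inferInstance, inferInstance,
      fun A' _ _ => ⟨fun _ => ⟨_, Category.comp_id _⟩, fun _ k hk => absurd hk k.not_lt_zero⟩⟩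
  | succ c ih =>
    obtain ⟨Z₁, i₁, h₁, h₁', h₁'', H₁⟩ := ih fun k hk => hI k (hk.trans c.lt_succ_self)
    obtain ⟨Z₂, i₂, h₂, h₂', h₂'', H₂⟩ := exists_rep_idempotent (I c) (hI c c.lt_succ_self)
    haveI := h₁; haveI := h₂; haveI := h₁'; haveI := h₁''
    haveI : LocallyOfFinitePresentation (pullback.fst i₁ i₂) := MorphismProperty.pullback_fst _ _ h₂'
    haveI : QuasiCompact (pullback.fst i₁ i₂) := MorphismProperty.pullback_fst _ _ h₂''
    refine ⟨pullback i₁ i₂, pullback.fst i₁ i₂ ≫ i₁, inferInstance, inferInstance, inferInstance, fun A' _ _ => ⟨fun h => ?_, ?_⟩⟩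
    · obtain ⟨k₁, hk₁⟩ := (H₁ A').1 fun k hk => h k (hk.trans c.lt_succ_self)
      obtain ⟨k₂, hk₂⟩ := (H₂ A').1 (h c c.lt_succ_self)
      exact ⟨pullback.lift k₁ k₂ (hk₁.trans hk₂.symm), by rw [pullback.lift_fst_assoc]; exact hk₁⟩
    · rintro ⟨m, hm⟩ k hk
      rcases Nat.lt_succ_iff_lt_or_eq.1 hk with hk | rfl
      · exact (H₁ A').2 ⟨m ≫ pullback.fst i₁ i₂, by rw [Category.assoc]; exact hm⟩ k hk
      · exact (H₂ A').2 ⟨m ≫ pullback.snd i₁ i₂, by rw [Category.assoc, ← pullback.condition]; exact hm⟩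

end GrothLib.DevFlatRep8
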